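import Mathlib

set_option autoImplicit false
open Equiv Equiv.Perm

namespace Cfsg.Agent.S3265L

/-! # S3265 : shared definitions (helper9)

`x y : Perm α` are involutions (`x * x = 1`, `y * y = 1`), `ρ = x * y`.
A *local solution* on an `x`,`y`-invariant finset `U` is an involution `z` that agrees with `x`
off `U`, preserves `U`, and such that every point of `U` lies on an odd cycle of `x * z` and of `z * y`. -/

variable {α : Type*} [Fintype α] [DecidableEq α]

/-- `a` lies on a cycle of odd length of `g`. -/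
def OddPt (g : Perm α) (a : α) : Prop := ∃ m : ℕ, Odd m ∧ (g ^ m) a = a

/-- `U` is mapped into itself by `g`. -/
def Inv (g : Perm α) (U : Finset α) : Prop := ∀ a, a ∈ U → g a ∈ U

/-- local solution on `U`. -/
def Sol (x y : Perm α) (U : Finset α) (z : Perm α) : Prop :=
  z * z = 1 ∧ (∀ a, a ∉ U → z a = x a) ∧ (∀ a, a ∈ U → z a ∈ U) ∧
    (∀ a, a ∈ U → OddPt (x * z) a) ∧ (∀ a, a ∈ U → OddPt (z * y) a)

/-- `U` contains as many fixed points of `x` as of `y`. -/
def Bal (x y : Perm α) (U : Finset α) : Prop :=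
  (U.filter (fun a => x a = a)).card = (U.filter (fun a => y a = a)).card

/-- a bare alternating 4-cycle `a -x- b -y- c -x- d -y- a`. -/
def IsK (x y : Perm α) (a b c d : α) : Prop :=
  a ≠ b ∧ a ≠ c ∧ a ≠ d ∧ b ≠ c ∧ b ≠ d ∧ c ≠ d ∧ x a = b ∧ x c = d ∧ y b = c ∧ y d = a

open scoped Classical in
/-- the points lying on odd cycles of `x * y`. -/
noncomputable def good (x y : Perm α) : Finset α := Finset.univ.filter (fun a => OddPt (x * y) a)

end Cfsg.Agent.S3265L
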