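import Mathlib
import Cfsg.Agent.Lib.S3265.Defs

/-! S3265 piece G (helper8): graph glue. -/

set_option autoImplicit false
open Equiv Equiv.Perm

namespace Cfsg.Agent.S3265L

theorem G_orderOf_comm {G : Type*} [Group G] (x y : G) : orderOf (x * y) = orderOf (y * x) := by
  have h : SemiconjBy y (x * y) (y * x) := by
    unfold SemiconjBy
    rw [mul_assoc]
  exact h.orderOf_eq y

theorem G_glue {V : Type*} [Finite V] (r : V → V → Prop) (hsymm : ∀ a b, r a b → r b a)
    (hL : ∀ u v : V, ∃ z : V, r u z ∧ r z v)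
    (hN : ∃ u v : V, u ≠ v ∧ ¬ r u v) :
    (SimpleGraph.fromRel r).Connected ∧ (SimpleGraph.fromRel r).diam = 2 := by
  set Gr := SimpleGraph.fromRel r with hGr
  have hadj : ∀ a b : V, a ≠ b → r a b → Gr.Adj a b := by
    intro a b hab h
    rw [hGr, SimpleGraph.fromRel_adj]
    exact ⟨hab, Or.inl h⟩
  have hnadj : ∀ a b : V, ¬ r a b → ¬ Gr.Adj a b := by
    intro a b h hadj'
    rw [hGr, SimpleGraph.fromRel_adj] at hadj'
    rcases hadj'.2 with h' | h'
    · exact h h'
    · exact h (hsymm _ _ h')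
  -- walks of length ≤ 2
  have hwalk : ∀ u v : V, ∃ p : Gr.Walk u v, p.length ≤ 2 := by
    intro u v
    by_cases huv : u = v
    · subst huv
      exact ⟨SimpleGraph.Walk.nil, by simp⟩
    · obtain ⟨z, h1, h2⟩ := hL u v
      by_cases hzu : z = u
      · subst hzu
        exact ⟨(hadj _ _ huv h2).toWalk, by simp⟩
      · by_cases hzv : z = v
        · subst hzv
          exact ⟨(hadj _ _ huv h1).toWalk, by simp⟩
        · refine ⟨SimpleGraph.Walk.cons (hadj u z (Ne.symm hzu) h1)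
            (SimpleGraph.Walk.cons (hadj z v hzv h2) SimpleGraph.Walk.nil), by simp⟩
  obtain ⟨a, b, hab, hnr⟩ := hN
  have hne : Nonempty V := ⟨a⟩
  have hconn : Gr.Connected := by
    rw [SimpleGraph.connected_iff]
    refine ⟨?_, hne⟩
    intro u v
    obtain ⟨p, -⟩ := hwalk u v
    exact ⟨p⟩
  have hed : Gr.ediam ≤ 2 := by
    apply SimpleGraph.ediam_le_of_edist_le
    intro u v
    obtain ⟨p, hp⟩ := hwalk u v
    calc Gr.edist u v ≤ p.length := SimpleGraph.edist_le p
      _ ≤ 2 := by exact_mod_cast hp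
  have htop : Gr.ediam ≠ ⊤ := by
    intro h
    rw [h] at hed
    simp at hed
  refine ⟨hconn, le_antisymm ?_ ?_⟩
  · exact ENat.toNat_le_of_le_natCast (by exact_mod_cast hed)
  · have h1 : Gr.dist a b ≤ Gr.diam := SimpleGraph.dist_le_diam htop
    have h2 : Gr.dist a b ≠ 0 := by
      rw [Ne, hconn.dist_eq_zero_iff]
      exact hab
    have h3 : Gr.dist a b ≠ 1 := by
      rw [Ne, SimpleGraph.dist_eq_one_iff_adj]
      exact hnadj a b hnr
    omega

theorem graph_glue (n : ℕ) (t : Perm (Fin n))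
    (hL : ∀ x y : Perm (Fin n), IsConj t x → IsConj t y →
      ∃ z : Perm (Fin n), IsConj t z ∧ Odd (orderOf (x * z)) ∧ Odd (orderOf (z * y)))
    (hN : ∃ x y : Perm (Fin n), IsConj t x ∧ IsConj t y ∧ x ≠ y ∧ ¬ Odd (orderOf (x * y))) :
    (SimpleGraph.fromRel fun x y : {x : Equiv.Perm (Fin n) // IsConj t x} =>
        Odd (orderOf (x.1 * y.1))).Connected ∧
      (SimpleGraph.fromRel fun x y : {x : Equiv.Perm (Fin n) // IsConj t x} =>
        Odd (orderOf (x.1 * y.1))).diam = 2 := by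
  apply G_glue (fun x y : {x : Equiv.Perm (Fin n) // IsConj t x} => Odd (orderOf (x.1 * y.1)))
  · intro a b h
    show Odd (orderOf (b.1 * a.1))
    rw [G_orderOf_comm]
    exact h
  · intro u v
    obtain ⟨z, hz, h1, h2⟩ := hL u.1 v.1 u.2 v.2
    exact ⟨⟨z, hz⟩, h1, h2⟩
  · obtain ⟨x, y, hx, hy, hne, hodd⟩ := hN
    refine ⟨⟨x, hx⟩, ⟨y, hy⟩, ?_, hodd⟩
    intro h
    exact hne (congrArg Subtype.val h)

end Cfsg.Agent.S3265L
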