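import Mathlib
import Cfsg.Agent.Lib.S3265.Defs

set_option autoImplicit false
set_option linter.unusedSectionVars false
open Equiv Equiv.Perm

namespace Cfsg.Agent.S3265L

variable {α : Type*} [Fintype α] [DecidableEq α]

/-! ## Piece A : basic lemmas (helper9) -/

theorem A_apply_apply (g : Perm α) (hg : g * g = 1) (a : α) : g (g a) = a := by
  have := congrArg (fun f : Perm α => f a) hg
  simpa using this

theorem odd_orderOf_of_oddPt (g : Perm α) (h : ∀ a, OddPt g a) : Odd (orderOf g) := by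
  classical
  choose m hm using h
  set N := ∏ a : α, m a with hN
  have hNodd : Odd N := by
    rw [hN]
    exact Finset.prod_induction m Odd (fun a b ha hb => ha.mul hb) odd_one (fun a _ => (hm a).1)
  have hpow : g ^ N = 1 := by
    ext a
    have hd : m a ∣ N := Finset.dvd_prod_of_mem m (Finset.mem_univ a)
    obtain ⟨k, hk⟩ := hd
    rw [hk, pow_mul]
    have : ∀ k : ℕ, ((g ^ m a) ^ k) a = a := by
      intro k
      induction k with
      | zero => simp
      | succ k ih => rw [pow_succ, Perm.mul_apply, (hm a).2, ih]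
    simpa using this k
  exact Odd.of_dvd_nat hNodd (orderOf_dvd_of_pow_eq_one hpow)

theorem isConj_of_odd (x z : Perm α) (hx : x * x = 1) (hz : z * z = 1) (h : Odd (orderOf (x * z))) :
    IsConj x z := by
  obtain ⟨s, hs⟩ := h
  set r := x * z with hr
  have hxi : x⁻¹ = x := inv_eq_of_mul_eq_one_right hx
  have hzi : z⁻¹ = z := inv_eq_of_mul_eq_one_right hz
  have hri : r⁻¹ = z * x := by rw [hr, mul_inv_rev, hxi, hzi]
  have h1 : x * r * x⁻¹ = r⁻¹ := by
    rw [hri, hxi, hr]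
    calc x * (x * z) * x = (x * x) * z * x := by group
      _ = z * x := by rw [hx, one_mul]
  have h2 : x * r ^ s * x⁻¹ = (r⁻¹) ^ s := by rw [← h1, conj_pow]
  have hrs : r ^ (2 * s + 1) = 1 := by rw [← hs]; exact pow_orderOf_eq_one r
  rw [isConj_iff]
  refine ⟨r ^ s, ?_⟩
  -- r^s x r^-s = r^s (x r^-s x⁻¹) x = r^s r^s x = r^(2s) x = r⁻¹ x = z
  have h3 : x * (r ^ s)⁻¹ * x⁻¹ = r ^ s := by
    have : x * (r ^ s)⁻¹ * x⁻¹ = (x * r ^ s * x⁻¹)⁻¹ := by group
    rw [this, h2, inv_pow, inv_inv]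
  have h4 : x * (r ^ s)⁻¹ = r ^ s * x := by
    calc x * (r ^ s)⁻¹ = (x * (r ^ s)⁻¹ * x⁻¹) * x := by group
      _ = r ^ s * x := by rw [h3]
  calc r ^ s * x * (r ^ s)⁻¹ = r ^ s * (x * (r ^ s)⁻¹) := by group
    _ = r ^ s * (r ^ s * x) := by rw [h4]
    _ = r ^ (2 * s) * x := by rw [← mul_assoc, ← pow_add, two_mul]
    _ = r⁻¹ * x := by
      congr 1
      have : r ^ (2 * s) * r = 1 := by rw [← pow_succ]; exact hrs
      exact eq_inv_of_mul_eq_one_left this
    _ = z := by rw [hri, mul_assoc, hx, mul_one]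

theorem sol_empty (x y : Perm α) (hx : x * x = 1) : Sol x y ∅ x := by
  refine ⟨hx, fun a _ => rfl, ?_, ?_, ?_⟩ <;> intro a ha <;> simp at ha

theorem sol_glue (x y : Perm α) (hx : x * x = 1) (U₁ U₂ : Finset α) (hd : Disjoint U₁ U₂)
    (h1x : Inv x U₁) (h1y : Inv y U₁) (h2x : Inv x U₂) (h2y : Inv y U₂)
    (z₁ z₂ : Perm α) (h1 : Sol x y U₁ z₁) (h2 : Sol x y U₂ z₂) : Sol x y (U₁ ∪ U₂) (z₁ * x * z₂) := by
  obtain ⟨i1, o1, m1, l1, r1⟩ := h1
  obtain ⟨i2, o2, m2, l2, r2⟩ := h2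
  have hxx := A_apply_apply x hx
  have hnot12 : ∀ a, a ∈ U₁ → a ∉ U₂ := fun a ha hb => Finset.disjoint_left.1 hd ha hb
  have hnot21 : ∀ a, a ∈ U₂ → a ∉ U₁ := fun a ha hb => Finset.disjoint_left.1 hd hb ha
  generalize hz : z₁ * x * z₂ = z
  have e1 : ∀ a, a ∈ U₁ → z a = z₁ a := by
    intro a ha
    rw [← hz, Perm.mul_apply, Perm.mul_apply, o2 a (hnot12 a ha), hxx]
  have e2 : ∀ a, a ∈ U₂ → z a = z₂ a := by
    intro a ha
    rw [← hz, Perm.mul_apply, Perm.mul_apply]
    have hb : x (z₂ a) ∈ U₂ := h2x _ (m2 a ha)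
    rw [o1 _ (hnot21 _ hb), hxx]
  have e3 : ∀ a, a ∉ U₁ → a ∉ U₂ → z a = x a := by
    intro a ha hb
    rw [← hz, Perm.mul_apply, Perm.mul_apply, o2 a hb, hxx, o1 a ha]
  refine ⟨?_, ?_, ?_, ?_, ?_⟩
  · ext a
    rw [Perm.mul_apply, Perm.one_apply]
    by_cases ha : a ∈ U₁
    · rw [e1 a ha, e1 _ (m1 a ha)]
      exact A_apply_apply z₁ i1 a
    · by_cases hb : a ∈ U₂
      · rw [e2 a hb, e2 _ (m2 a hb)]
        exact A_apply_apply z₂ i2 a
      · rw [e3 a ha hb]
        have h1' : x a ∉ U₁ := fun h => ha (by have := h1x _ h; rwa [hxx] at this)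
        have h2' : x a ∉ U₂ := fun h => hb (by have := h2x _ h; rwa [hxx] at this)
        rw [e3 _ h1' h2', hxx]
  · intro a ha
    rw [Finset.mem_union, not_or] at ha
    exact e3 a ha.1 ha.2
  · intro a ha
    rcases Finset.mem_union.1 ha with ha | ha
    · rw [e1 a ha]; exact Finset.mem_union_left _ (m1 a ha)
    · rw [e2 a ha]; exact Finset.mem_union_right _ (m2 a ha)
  · intro a ha
    rcases Finset.mem_union.1 ha with ha | ha
    · obtain ⟨m, hm, hma⟩ := l1 a ha
      have key : ∀ k : ℕ, ((x * z) ^ k) a = ((x * z₁) ^ k) a ∧ ((x * z₁) ^ k) a ∈ U₁ := by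
        intro k
        induction k with
        | zero => exact ⟨by simp, by simpa using ha⟩
        | succ k ih =>
          rw [pow_succ', pow_succ', Perm.mul_apply, Perm.mul_apply, Perm.mul_apply, Perm.mul_apply, ih.1,
            e1 _ ih.2]
          exact ⟨rfl, h1x _ (m1 _ ih.2)⟩
      exact ⟨m, hm, by rw [(key m).1, hma]⟩
    · obtain ⟨m, hm, hma⟩ := l2 a ha
      have key : ∀ k : ℕ, ((x * z) ^ k) a = ((x * z₂) ^ k) a ∧ ((x * z₂) ^ k) a ∈ U₂ := by
        intro k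
        induction k with
        | zero => exact ⟨by simp, by simpa using ha⟩
        | succ k ih =>
          rw [pow_succ', pow_succ', Perm.mul_apply, Perm.mul_apply, Perm.mul_apply, Perm.mul_apply, ih.1,
            e2 _ ih.2]
          exact ⟨rfl, h2x _ (m2 _ ih.2)⟩
      exact ⟨m, hm, by rw [(key m).1, hma]⟩
  · intro a ha
    rcases Finset.mem_union.1 ha with ha | ha
    · obtain ⟨m, hm, hma⟩ := r1 a ha
      have key : ∀ k : ℕ, ((z * y) ^ k) a = ((z₁ * y) ^ k) a ∧ ((z₁ * y) ^ k) a ∈ U₁ := by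
        intro k
        induction k with
        | zero => exact ⟨by simp, by simpa using ha⟩
        | succ k ih =>
          rw [pow_succ', pow_succ', Perm.mul_apply, Perm.mul_apply, Perm.mul_apply, Perm.mul_apply, ih.1,
            e1 _ (h1y _ ih.2)]
          exact ⟨rfl, m1 _ (h1y _ ih.2)⟩
      exact ⟨m, hm, by rw [(key m).1, hma]⟩
    · obtain ⟨m, hm, hma⟩ := r2 a ha
      have key : ∀ k : ℕ, ((z * y) ^ k) a = ((z₂ * y) ^ k) a ∧ ((z₂ * y) ^ k) a ∈ U₂ := by
        intro k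
        induction k with
        | zero => exact ⟨by simp, by simpa using ha⟩
        | succ k ih =>
          rw [pow_succ', pow_succ', Perm.mul_apply, Perm.mul_apply, Perm.mul_apply, Perm.mul_apply, ih.1,
            e2 _ (h2y _ ih.2)]
          exact ⟨rfl, m2 _ (h2y _ ih.2)⟩
      exact ⟨m, hm, by rw [(key m).1, hma]⟩

theorem sol_univ (x y z : Perm α) (h : Sol x y Finset.univ z) :
    z * z = 1 ∧ Odd (orderOf (x * z)) ∧ Odd (orderOf (z * y)) := by
  obtain ⟨i, -, -, l, r⟩ := h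
  exact ⟨i, odd_orderOf_of_oddPt _ (fun a => l a (Finset.mem_univ a)),
    odd_orderOf_of_oddPt _ (fun a => r a (Finset.mem_univ a))⟩

end Cfsg.Agent.S3265L
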