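import Mathlib
import Cfsg.Agent.Lib.S3265.Defs

set_option autoImplicit false
set_option linter.unusedVariables false
set_option linter.unusedSectionVars false
open Equiv Equiv.Perm

/-! S3265 piece E: absorbing a bare 4-cycle into a solved nonempty part. -/

namespace Cfsg.Agent.S3265L

variable {α : Type*} [Fintype α] [DecidableEq α]

lemma E_oddPt_pow (g : Perm α) (w : α) (i : ℕ) (h : OddPt g w) : OddPt g ((g ^ i) w) := by
  obtain ⟨m, hm, hmw⟩ := h
  refine ⟨m, hm, ?_⟩
  rw [← Perm.mul_apply, ← pow_add, add_comm, pow_add, Perm.mul_apply, hmw]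

/-- if `g'` is a return map of `g` to `W` with odd return times then odd `g'`-cycles in `W` give
odd `g`-cycles. -/
lemma E_odd_of_return (g g' : Perm α) (W : Finset α) (hW : ∀ w ∈ W, g' w ∈ W)
    (hret : ∀ w ∈ W, ∃ k : ℕ, Odd k ∧ (g ^ k) w = g' w) (w : α) (hw : w ∈ W)
    (h : OddPt g' w) : OddPt g w := by
  have key : ∀ j : ℕ, (g' ^ j) w ∈ W ∧ ∃ M : ℕ, (Odd M ↔ Odd j) ∧ (g ^ M) w = (g' ^ j) w := by
    intro j
    induction j with
    | zero => exact ⟨by simpa using hw, 0, by simp, by simp⟩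
    | succ j ih =>
      obtain ⟨hjW, M, hM, hMw⟩ := ih
      obtain ⟨k, hk, hkw⟩ := hret _ hjW
      have e : (g' ^ (j + 1)) w = g' ((g' ^ j) w) := by rw [pow_succ', Perm.mul_apply]
      refine ⟨by rw [e]; exact hW _ hjW, k + M, ?_, ?_⟩
      · simp only [Nat.odd_iff] at hk hM ⊢
        omega
      · rw [pow_add, Perm.mul_apply, hMw, hkw, e]
  obtain ⟨m, hm, hmw⟩ := h
  obtain ⟨-, M, hM, hMw⟩ := key m
  exact ⟨M, hM.2 hm, by rw [hMw, hmw]⟩

lemma E_pow1 (g : Perm α) (w : α) : (g ^ 1) w = g w := by rw [pow_one]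
lemma E_pow2 (g : Perm α) (w : α) : (g ^ 2) w = g (g w) := rfl
lemma E_pow3 (g : Perm α) (w : α) : (g ^ 3) w = g (g (g w)) := rfl
lemma E_pow4 (g : Perm α) (w : α) : (g ^ 4) w = g (g (g (g w))) := rfl
lemma E_pow5 (g : Perm α) (w : α) : (g ^ 5) w = g (g (g (g (g w)))) := rfl

/-- the modified involution in the case of a fixed point `e` of `z'`. -/
lemma E_swaps3 (z' : Perm α) (c d e : α) (hcd : c ≠ d) (hce : c ≠ e) (hde : d ≠ e)
    (hzc : z' c = d) (hzd : z' d = c) (hze : z' e = e) :
    ∃ z : Perm α, z c = e ∧ z e = c ∧ z d = d ∧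
      ∀ w, w ≠ c → w ≠ d → w ≠ e → z w = z' w := by
  refine ⟨z' * swap c d * swap c e, ?_, ?_, ?_, ?_⟩
  · show z' (swap c d (swap c e c)) = e
    rw [swap_apply_left, swap_apply_of_ne_of_ne hce.symm hde.symm, hze]
  · show z' (swap c d (swap c e e)) = c
    rw [swap_apply_right, swap_apply_left, hzd]
  · show z' (swap c d (swap c e d)) = d
    rw [swap_apply_of_ne_of_ne hcd.symm hde, swap_apply_right, hzc]
  · intro w h1 h2 h3
    show z' (swap c d (swap c e w)) = z' w
    rw [swap_apply_of_ne_of_ne h1 h3, swap_apply_of_ne_of_ne h1 h2]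

/-- the modified involution in the case of a 2-cycle `(u v)` of `z'`. -/
lemma E_swaps6 (z' : Perm α) (a b c d u v : α)
    (hab : a ≠ b) (hac : a ≠ c) (had : a ≠ d) (hau : a ≠ u) (hav : a ≠ v)
    (hbc : b ≠ c) (hbd : b ≠ d) (hbu : b ≠ u) (hbv : b ≠ v)
    (hcd : c ≠ d) (hcu : c ≠ u) (hcv : c ≠ v) (hdu : d ≠ u) (hdv : d ≠ v) (huv : u ≠ v)
    (hza : z' a = b) (hzb : z' b = a) (hzc : z' c = d) (hzd : z' d = c)
    (hzu : z' u = v) (hzv : z' v = u) :
    ∃ z : Perm α, z a = u ∧ z u = a ∧ z b = d ∧ z d = b ∧ z c = v ∧ z v = c ∧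
      ∀ w, w ≠ a → w ≠ b → w ≠ c → w ≠ d → w ≠ u → w ≠ v → z w = z' w := by
  have hba := hab.symm
  have hca := hac.symm
  have hda := had.symm
  have hua := hau.symm
  have hva := hav.symm
  have hcb := hbc.symm
  have hdb := hbd.symm
  have hub := hbu.symm
  have hvb := hbv.symm
  have hdc := hcd.symm
  have huc := hcu.symm
  have hvc := hcv.symm
  have hud := hdu.symm
  have hvd := hdv.symm
  have hvu := huv.symm
  refine ⟨z' * (swap a b * swap c d * swap u v) * (swap a u * swap b d * swap c v),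
    ?_, ?_, ?_, ?_, ?_, ?_, ?_⟩
  · show z' (swap a b (swap c d (swap u v (swap a u (swap b d (swap c v a)))))) = u
    rw [swap_apply_of_ne_of_ne hac hav, swap_apply_of_ne_of_ne hab had, swap_apply_left,
      swap_apply_left, swap_apply_of_ne_of_ne hvc hvd, swap_apply_of_ne_of_ne hva hvb, hzv]
  · show z' (swap a b (swap c d (swap u v (swap a u (swap b d (swap c v u)))))) = a
    rw [swap_apply_of_ne_of_ne huc huv, swap_apply_of_ne_of_ne hub hud, swap_apply_right,
      swap_apply_of_ne_of_ne hau hav, swap_apply_of_ne_of_ne hac had, swap_apply_left, hzb]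
  · show z' (swap a b (swap c d (swap u v (swap a u (swap b d (swap c v b)))))) = d
    rw [swap_apply_of_ne_of_ne hbc hbv, swap_apply_left, swap_apply_of_ne_of_ne hda hdu,
      swap_apply_of_ne_of_ne hdu hdv, swap_apply_right, swap_apply_of_ne_of_ne hca hcb, hzc]
  · show z' (swap a b (swap c d (swap u v (swap a u (swap b d (swap c v d)))))) = b
    rw [swap_apply_of_ne_of_ne hdc hdv, swap_apply_right, swap_apply_of_ne_of_ne hba hbu,
      swap_apply_of_ne_of_ne hbu hbv, swap_apply_of_ne_of_ne hbc hbd, swap_apply_right, hza]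
  · show z' (swap a b (swap c d (swap u v (swap a u (swap b d (swap c v c)))))) = v
    rw [swap_apply_left, swap_apply_of_ne_of_ne hvb hvd, swap_apply_of_ne_of_ne hva hvu,
      swap_apply_right, swap_apply_of_ne_of_ne huc hud, swap_apply_of_ne_of_ne hua hub, hzu]
  · show z' (swap a b (swap c d (swap u v (swap a u (swap b d (swap c v v)))))) = c
    rw [swap_apply_right, swap_apply_of_ne_of_ne hcb hcd, swap_apply_of_ne_of_ne hca hcu,
      swap_apply_of_ne_of_ne hcu hcv, swap_apply_left, swap_apply_of_ne_of_ne hda hdb, hzd]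
  · intro w h1 h2 h3 h4 h5 h6
    show z' (swap a b (swap c d (swap u v (swap a u (swap b d (swap c v w)))))) = z' w
    rw [swap_apply_of_ne_of_ne h3 h6, swap_apply_of_ne_of_ne h2 h4, swap_apply_of_ne_of_ne h1 h5,
      swap_apply_of_ne_of_ne h5 h6, swap_apply_of_ne_of_ne h3 h4, swap_apply_of_ne_of_ne h1 h2]

lemma E_mem (W : Finset α) (a b c d w : α) :
    w ∈ W ∪ {a, b, c, d} ↔ w ∈ W ∨ w = a ∨ w = b ∨ w = c ∨ w = d := by
  simp only [Finset.mem_union, Finset.mem_insert, Finset.mem_singleton]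

/-- case of a fixed point `e ∈ W` of `z'`. -/
lemma E_ext_fix (x y : Perm α) (hx : x * x = 1) (hy : y * y = 1) (a b c d : α)
    (hK : IsK x y a b c d) (W : Finset α) (hdisj : a ∉ W ∧ b ∉ W ∧ c ∉ W ∧ d ∉ W)
    (hWx : Inv x W) (hWy : Inv y W) (z' : Perm α) (hz' : Sol x y W z')
    (e : α) (he : e ∈ W) (hze : z' e = e) :
    ∃ z : Perm α, Sol x y (W ∪ {a, b, c, d}) z := by
  obtain ⟨hab, hac, had, hbc, hbd, hcd, hxa, hxc, hyb, hyd⟩ := hK
  obtain ⟨haW, hbW, hcW, hdW⟩ := hdisj
  obtain ⟨hz2, hzoff, hzW, hzx, hzy⟩ := hz'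
  have hxx : ∀ w, x (x w) = w := fun w => by rw [← Perm.mul_apply, hx, Perm.one_apply]
  have hyy : ∀ w, y (y w) = w := fun w => by rw [← Perm.mul_apply, hy, Perm.one_apply]
  have hzz : ∀ w, z' (z' w) = w := fun w => by rw [← Perm.mul_apply, hz2, Perm.one_apply]
  have hxb : x b = a := by rw [← hxa, hxx]
  have hxd : x d = c := by rw [← hxc, hxx]
  have hyc : y c = b := by rw [← hyb, hyy]
  have hya : y a = d := by rw [← hyd, hyy]
  have hza : z' a = b := by rw [hzoff a haW, hxa]
  have hzb : z' b = a := by rw [hzoff b hbW, hxb]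
  have hzc : z' c = d := by rw [hzoff c hcW, hxc]
  have hzd : z' d = c := by rw [hzoff d hdW, hxd]
  have nW : ∀ {p q : α}, p ∈ W → q ∉ W → p ≠ q := fun hp hq h => hq (h ▸ hp)
  have hea : e ≠ a := nW he haW
  have heb : e ≠ b := nW he hbW
  have hec : e ≠ c := nW he hcW
  have hed : e ≠ d := nW he hdW
  obtain ⟨z, zc, ze, zd, zo⟩ := E_swaps3 z' c d e hcd hec.symm hed.symm hzc hzd hze
  have za : z a = b := by rw [zo a hac had hea.symm, hza]
  have zb : z b = a := by rw [zo b hbc hbd heb.symm, hzb]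
  have zW : ∀ w, w ∈ W → w ≠ e → z w = z' w := fun w hw h3 =>
    zo w (nW hw hcW) (nW hw hdW) h3
  refine ⟨z, ?_, ?_, ?_, ?_, ?_⟩
  · ext w
    rw [Perm.mul_apply, Perm.one_apply]
    by_cases h1 : w = c
    · rw [h1, zc, ze]
    by_cases h2 : w = d
    · rw [h2, zd, zd]
    by_cases h3 : w = e
    · rw [h3, ze, zc]
    rw [zo w h1 h2 h3]
    have k1 : z' w ≠ c := fun h => h2 (by rw [← hzz w, h, hzc])
    have k2 : z' w ≠ d := fun h => h1 (by rw [← hzz w, h, hzd])
    have k3 : z' w ≠ e := fun h => h3 (by rw [← hzz w, h, hze])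
    rw [zo _ k1 k2 k3, hzz]
  · intro w hw
    rw [E_mem] at hw
    push_neg at hw
    obtain ⟨hwW, hwa, hwb, hwc, hwd⟩ := hw
    rw [zo w hwc hwd (fun h => hwW (h ▸ he)), hzoff w hwW]
  · intro w hw
    rw [E_mem] at hw ⊢
    by_cases h1 : w = c
    · left; rw [h1, zc]; exact he
    by_cases h2 : w = d
    · right; right; right; right; rw [h2, zd]
    by_cases h3 : w = e
    · right; right; right; left; rw [h3, ze]
    rw [zo w h1 h2 h3]
    rcases hw with hw | hw | hw | hw | hw
    · left; exact hzW w hw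
    · right; right; left; rw [hw, hza]
    · right; left; rw [hw, hzb]
    · exact absurd hw h1
    · exact absurd hw h2
  · have gW : ∀ w ∈ W, OddPt (x * z) w := by
      intro w hw
      apply E_odd_of_return (x * z) (x * z') W _ _ w hw (hzx w hw)
      · intro w hw; exact hWx _ (hzW w hw)
      · intro w hw
        by_cases h3 : w = e
        · refine ⟨3, by decide, ?_⟩
          rw [h3, E_pow3]
          show x (z (x (z (x (z e))))) = x (z' e)
          rw [ze, hxc, zd, hxd, zc, hze]
        · refine ⟨1, by decide, ?_⟩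
          rw [E_pow1]
          show x (z w) = x (z' w)
          rw [zW w hw h3]
    intro w hw
    rw [E_mem] at hw
    rcases hw with hw | hw | hw | hw | hw
    · exact gW w hw
    · refine ⟨1, by decide, ?_⟩
      rw [E_pow1, hw]
      show x (z a) = a
      rw [za, hxb]
    · refine ⟨1, by decide, ?_⟩
      rw [E_pow1, hw]
      show x (z b) = b
      rw [zb, hxa]
    · have h := E_oddPt_pow (x * z) e 2 (gW e he)
      have e2 : ((x * z) ^ 2) e = c := by
        rw [E_pow2]
        show x (z (x (z e))) = c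
        rw [ze, hxc, zd, hxd]
      rw [e2] at h
      rw [hw]; exact h
    · have h := E_oddPt_pow (x * z) e 1 (gW e he)
      have e1 : ((x * z) ^ 1) e = d := by
        rw [E_pow1]
        show x (z e) = d
        rw [ze, hxc]
      rw [e1] at h
      rw [hw]; exact h
  · have hf : y e ∈ W := hWy e he
    have gW : ∀ w ∈ W, OddPt (z * y) w := by
      intro w hw
      apply E_odd_of_return (z * y) (z' * y) W _ _ w hw (hzy w hw)
      · intro w hw; exact hzW _ (hWy w hw)
      · intro w hw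
        by_cases h3 : y w = e
        · refine ⟨5, by decide, ?_⟩
          rw [E_pow5]
          show z (y (z (y (z (y (z (y (z (y w))))))))) = z' (y w)
          rw [h3, ze, hyc, zb, hya, zd, hyd, za, hyb, zc, hze]
        · refine ⟨1, by decide, ?_⟩
          rw [E_pow1]
          show z (y w) = z' (y w)
          rw [zW (y w) (hWy w hw) h3]
    intro w hw
    rw [E_mem] at hw
    rcases hw with hw | hw | hw | hw | hw
    · exact gW w hw
    · have h := E_oddPt_pow (z * y) (y e) 2 (gW _ hf)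
      have e2 : ((z * y) ^ 2) (y e) = a := by
        rw [E_pow2]
        show z (y (z (y (y e)))) = a
        rw [hyy, ze, hyc, zb]
      rw [e2] at h
      rw [hw]; exact h
    · have h := E_oddPt_pow (z * y) (y e) 4 (gW _ hf)
      have e2 : ((z * y) ^ 4) (y e) = b := by
        rw [E_pow4]
        show z (y (z (y (z (y (z (y (y e)))))))) = b
        rw [hyy, ze, hyc, zb, hya, zd, hyd, za]
      rw [e2] at h
      rw [hw]; exact h
    · have h := E_oddPt_pow (z * y) (y e) 1 (gW _ hf)
      have e2 : ((z * y) ^ 1) (y e) = c := by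
        rw [E_pow1]
        show z (y (y e)) = c
        rw [hyy, ze]
      rw [e2] at h
      rw [hw]; exact h
    · have h := E_oddPt_pow (z * y) (y e) 3 (gW _ hf)
      have e2 : ((z * y) ^ 3) (y e) = d := by
        rw [E_pow3]
        show z (y (z (y (z (y (y e)))))) = d
        rw [hyy, ze, hyc, zb, hya, zd]
      rw [e2] at h
      rw [hw]; exact h

/-- case of a point `u ∈ W` moved by `z'`. -/
lemma E_ext_move (x y : Perm α) (hx : x * x = 1) (hy : y * y = 1) (a b c d : α)
    (hK : IsK x y a b c d) (W : Finset α) (hdisj : a ∉ W ∧ b ∉ W ∧ c ∉ W ∧ d ∉ W)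
    (hWx : Inv x W) (hWy : Inv y W) (z' : Perm α) (hz' : Sol x y W z')
    (u : α) (hu : u ∈ W) (hzne : z' u ≠ u) :
    ∃ z : Perm α, Sol x y (W ∪ {a, b, c, d}) z := by
  obtain ⟨hab, hac, had, hbc, hbd, hcd, hxa, hxc, hyb, hyd⟩ := hK
  obtain ⟨haW, hbW, hcW, hdW⟩ := hdisj
  obtain ⟨hz2, hzoff, hzW, hzx, hzy⟩ := hz'
  have hxx : ∀ w, x (x w) = w := fun w => by rw [← Perm.mul_apply, hx, Perm.one_apply]
  have hyy : ∀ w, y (y w) = w := fun w => by rw [← Perm.mul_apply, hy, Perm.one_apply]
  have hzz : ∀ w, z' (z' w) = w := fun w => by rw [← Perm.mul_apply, hz2, Perm.one_apply]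
  have hxb : x b = a := by rw [← hxa, hxx]
  have hxd : x d = c := by rw [← hxc, hxx]
  have hyc : y c = b := by rw [← hyb, hyy]
  have hya : y a = d := by rw [← hyd, hyy]
  have hza : z' a = b := by rw [hzoff a haW, hxa]
  have hzb : z' b = a := by rw [hzoff b hbW, hxb]
  have hzc : z' c = d := by rw [hzoff c hcW, hxc]
  have hzd : z' d = c := by rw [hzoff d hdW, hxd]
  have nW : ∀ {p q : α}, p ∈ W → q ∉ W → p ≠ q := fun hp hq h => hq (h ▸ hp)
  obtain ⟨v, hzu⟩ : ∃ v, z' u = v := ⟨_, rfl⟩
  have hv : v ∈ W := by rw [← hzu]; exact hzW u hu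
  have hzv : z' v = u := by rw [← hzu, hzz]
  have hvu : v ≠ u := by rw [← hzu]; exact hzne
  have hua : u ≠ a := nW hu haW
  have hub : u ≠ b := nW hu hbW
  have huc : u ≠ c := nW hu hcW
  have hud : u ≠ d := nW hu hdW
  have hva : v ≠ a := nW hv haW
  have hvb : v ≠ b := nW hv hbW
  have hvc : v ≠ c := nW hv hcW
  have hvd : v ≠ d := nW hv hdW
  obtain ⟨z, za, zu, zb, zd, zc, zv, zo⟩ := E_swaps6 z' a b c d u v hab hac had hua.symm hva.symm
    hbc hbd hub.symm hvb.symm hcd huc.symm hvc.symm hud.symm hvd.symm hvu.symm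
    hza hzb hzc hzd hzu hzv
  have zW : ∀ w, w ∈ W → w ≠ u → w ≠ v → z w = z' w := fun w hw h5 h6 =>
    zo w (nW hw haW) (nW hw hbW) (nW hw hcW) (nW hw hdW) h5 h6
  refine ⟨z, ?_, ?_, ?_, ?_, ?_⟩
  · ext w
    rw [Perm.mul_apply, Perm.one_apply]
    by_cases h1 : w = a
    · rw [h1, za, zu]
    by_cases h2 : w = b
    · rw [h2, zb, zd]
    by_cases h3 : w = c
    · rw [h3, zc, zv]
    by_cases h4 : w = d
    · rw [h4, zd, zb]
    by_cases h5 : w = u
    · rw [h5, zu, za]
    by_cases h6 : w = v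
    · rw [h6, zv, zc]
    rw [zo w h1 h2 h3 h4 h5 h6]
    have k1 : z' w ≠ a := fun h => h2 (by rw [← hzz w, h, hza])
    have k2 : z' w ≠ b := fun h => h1 (by rw [← hzz w, h, hzb])
    have k3 : z' w ≠ c := fun h => h4 (by rw [← hzz w, h, hzc])
    have k4 : z' w ≠ d := fun h => h3 (by rw [← hzz w, h, hzd])
    have k5 : z' w ≠ u := fun h => h6 (by rw [← hzz w, h, hzu])
    have k6 : z' w ≠ v := fun h => h5 (by rw [← hzz w, h, hzv])
    rw [zo _ k1 k2 k3 k4 k5 k6, hzz]
  · intro w hw
    rw [E_mem] at hw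
    push_neg at hw
    obtain ⟨hwW, hwa, hwb, hwc, hwd⟩ := hw
    rw [zo w hwa hwb hwc hwd (fun h => hwW (h ▸ hu)) (fun h => hwW (h ▸ hv)), hzoff w hwW]
  · intro w hw
    rw [E_mem] at hw ⊢
    by_cases h1 : w = a
    · left; rw [h1, za]; exact hu
    by_cases h2 : w = b
    · right; right; right; right; rw [h2, zb]
    by_cases h3 : w = c
    · left; rw [h3, zc]; exact hv
    by_cases h4 : w = d
    · right; right; left; rw [h4, zd]
    by_cases h5 : w = u
    · right; left; rw [h5, zu]
    by_cases h6 : w = v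
    · right; right; right; left; rw [h6, zv]
    rw [zo w h1 h2 h3 h4 h5 h6]
    rcases hw with hw | hw | hw | hw | hw
    · left; exact hzW w hw
    · exact absurd hw h1
    · exact absurd hw h2
    · exact absurd hw h3
    · exact absurd hw h4
  · have gW : ∀ w ∈ W, OddPt (x * z) w := by
      intro w hw
      apply E_odd_of_return (x * z) (x * z') W _ _ w hw (hzx w hw)
      · intro w hw; exact hWx _ (hzW w hw)
      · intro w hw
        by_cases h5 : w = u
        · refine ⟨3, by decide, ?_⟩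
          rw [h5, E_pow3]
          show x (z (x (z (x (z u))))) = x (z' u)
          rw [zu, hxa, zb, hxd, zc, hzu]
        by_cases h6 : w = v
        · refine ⟨3, by decide, ?_⟩
          rw [h6, E_pow3]
          show x (z (x (z (x (z v))))) = x (z' v)
          rw [zv, hxc, zd, hxb, za, hzv]
        · refine ⟨1, by decide, ?_⟩
          rw [E_pow1]
          show x (z w) = x (z' w)
          rw [zW w hw h5 h6]
    intro w hw
    rw [E_mem] at hw
    rcases hw with hw | hw | hw | hw | hw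
    · exact gW w hw
    · have h := E_oddPt_pow (x * z) v 2 (gW v hv)
      have e2 : ((x * z) ^ 2) v = a := by
        rw [E_pow2]
        show x (z (x (z v))) = a
        rw [zv, hxc, zd, hxb]
      rw [e2] at h
      rw [hw]; exact h
    · have h := E_oddPt_pow (x * z) u 1 (gW u hu)
      have e2 : ((x * z) ^ 1) u = b := by
        rw [E_pow1]
        show x (z u) = b
        rw [zu, hxa]
      rw [e2] at h
      rw [hw]; exact h
    · have h := E_oddPt_pow (x * z) u 2 (gW u hu)
      have e2 : ((x * z) ^ 2) u = c := by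
        rw [E_pow2]
        show x (z (x (z u))) = c
        rw [zu, hxa, zb, hxd]
      rw [e2] at h
      rw [hw]; exact h
    · have h := E_oddPt_pow (x * z) v 1 (gW v hv)
      have e2 : ((x * z) ^ 1) v = d := by
        rw [E_pow1]
        show x (z v) = d
        rw [zv, hxc]
      rw [e2] at h
      rw [hw]; exact h
  · have hfu : y u ∈ W := hWy u hu
    have hfv : y v ∈ W := hWy v hv
    have gW : ∀ w ∈ W, OddPt (z * y) w := by
      intro w hw
      apply E_odd_of_return (z * y) (z' * y) W _ _ w hw (hzy w hw)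
      · intro w hw; exact hzW _ (hWy w hw)
      · intro w hw
        by_cases h5 : y w = u
        · refine ⟨3, by decide, ?_⟩
          rw [E_pow3]
          show z (y (z (y (z (y w))))) = z' (y w)
          rw [h5, zu, hya, zd, hyb, zc, hzu]
        by_cases h6 : y w = v
        · refine ⟨3, by decide, ?_⟩
          rw [E_pow3]
          show z (y (z (y (z (y w))))) = z' (y w)
          rw [h6, zv, hyc, zb, hyd, za, hzv]
        · refine ⟨1, by decide, ?_⟩
          rw [E_pow1]
          show z (y w) = z' (y w)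
          rw [zW (y w) (hWy w hw) h5 h6]
    intro w hw
    rw [E_mem] at hw
    rcases hw with hw | hw | hw | hw | hw
    · exact gW w hw
    · have h := E_oddPt_pow (z * y) (y u) 1 (gW _ hfu)
      have e2 : ((z * y) ^ 1) (y u) = a := by
        rw [E_pow1]
        show z (y (y u)) = a
        rw [hyy, zu]
      rw [e2] at h
      rw [hw]; exact h
    · have h := E_oddPt_pow (z * y) (y u) 2 (gW _ hfu)
      have e2 : ((z * y) ^ 2) (y u) = b := by
        rw [E_pow2]
        show z (y (z (y (y u)))) = b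
        rw [hyy, zu, hya, zd]
      rw [e2] at h
      rw [hw]; exact h
    · have h := E_oddPt_pow (z * y) (y v) 1 (gW _ hfv)
      have e2 : ((z * y) ^ 1) (y v) = c := by
        rw [E_pow1]
        show z (y (y v)) = c
        rw [hyy, zv]
      rw [e2] at h
      rw [hw]; exact h
    · have h := E_oddPt_pow (z * y) (y v) 2 (gW _ hfv)
      have e2 : ((z * y) ^ 2) (y v) = d := by
        rw [E_pow2]
        show z (y (z (y (y v)))) = d
        rw [hyy, zv, hyc, zb]
      rw [e2] at h
      rw [hw]; exact h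

/-- Piece E : absorbing a bare 4-cycle into a solved nonempty part. -/
theorem ext_sol (x y : Perm α) (hx : x * x = 1) (hy : y * y = 1) (a b c d : α) (hK : IsK x y a b c d)
    (W : Finset α) (hW : W.Nonempty) (hdisj : a ∉ W ∧ b ∉ W ∧ c ∉ W ∧ d ∉ W)
    (hWx : Inv x W) (hWy : Inv y W) (z' : Perm α) (hz' : Sol x y W z') :
    ∃ z : Perm α, Sol x y (W ∪ {a, b, c, d}) z := by
  obtain ⟨e, he⟩ := hW
  by_cases hze : z' e = e
  · exact E_ext_fix x y hx hy a b c d hK W hdisj hWx hWy z' hz' e he hze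
  · exact E_ext_move x y hx hy a b c d hK W hdisj hWx hWy z' hz' e he hze

end Cfsg.Agent.S3265L
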