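import Mathlib
import Cfsg.Agent.Lib.S3265.Defs

set_option autoImplicit false
set_option linter.unusedSectionVars false
open Equiv Equiv.Perm

namespace Cfsg.Agent.S3265L

variable {α : Type*} [Fintype α] [DecidableEq α]

/-! ## Piece P : path-type orbits contain a fixed point; period-2 cycle-type orbits (helper9) -/

theorem P_apply_apply (g : Perm α) (hg : g * g = 1) (a : α) : g (g a) = a := by
  have := congrArg (fun f : Perm α => f a) hg
  simpa using this

/-- `ρ x ρ = x` pointwise, for `ρ = x * y`. -/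
theorem P_rho_x_rho (x y : Perm α) (hx : x * x = 1) (hy : y * y = 1) (k : ℕ) (a : α) :
    ((x * y) ^ k) (x (((x * y) ^ k) a)) = x a := by
  induction k generalizing a with
  | zero => simp
  | succ k ih =>
    have h1 : ((x * y) ^ (k + 1)) a = (x * y) (((x * y) ^ k) a) := by rw [pow_succ']; rfl
    have h2 : ∀ w, ((x * y) ^ (k + 1)) w = ((x * y) ^ k) ((x * y) w) := by
      intro w; rw [pow_succ]; rfl
    rw [h1, h2]
    have h3 : ∀ w, (x * y) (x ((x * y) w)) = x w := by
      intro w
      simp only [Perm.mul_apply]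
      rw [P_apply_apply x hx, P_apply_apply y hy]
    rw [h3, ih]

theorem exists_fixed_of_path (x y : Perm α) (hx : x * x = 1) (hy : y * y = 1) (a : α) (j : ℕ)
    (hj : ((x * y) ^ j) a = x a) :
    ∃ i : ℕ, x (((x * y) ^ i) a) = ((x * y) ^ i) a ∨ y (((x * y) ^ i) a) = ((x * y) ^ i) a := by
  rcases Nat.even_or_odd' j with ⟨i, rfl | rfl⟩
  · refine ⟨i, Or.inl ?_⟩
    apply ((x * y) ^ i).injective
    rw [P_rho_x_rho x y hx hy, ← hj, two_mul, pow_add, Perm.mul_apply]
  · refine ⟨i, Or.inr ?_⟩
    have hyw : ∀ w, y w = x ((x * y) w) := by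
      intro w; simp only [Perm.mul_apply]; rw [P_apply_apply x hx]
    rw [hyw]
    have h1 : (x * y) (((x * y) ^ i) a) = ((x * y) ^ (i + 1)) a := by rw [pow_succ']; rfl
    rw [h1]
    apply ((x * y) ^ (i + 1)).injective
    rw [P_rho_x_rho x y hx hy, ← hj]
    have : 2 * i + 1 = (i + 1) + i := by ring
    rw [this, pow_add, Perm.mul_apply]

theorem isK_of_period_two (x y : Perm α) (hx : x * x = 1) (hy : y * y = 1) (a : α)
    (ha : ¬ OddPt (x * y) a) (hcyc : ∀ j : ℕ, ((x * y) ^ j) a ≠ x a) (h2 : ((x * y) ^ 2) a = a) :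
    IsK x y a (x a) (y (x a)) (x (y (x a))) := by
  have hxx := P_apply_apply x hx
  have hyy := P_apply_apply y hy
  have hρ : ∀ w, (x * y) w = x (y w) := fun w => rfl
  have hρ2 : ∀ w, ((x * y) ^ 2) w = x (y (x (y w))) := by
    intro w; rw [pow_two]; rfl
  have h2' : x (y (x (y a))) = a := by rw [← hρ2]; exact h2
  have hab : a ≠ x a := by
    have := hcyc 0
    simpa using this
  have hρa : x (y a) ≠ a := by
    intro h
    apply ha
    exact ⟨1, odd_one, by simpa using h⟩
  have hρ1 : x (y a) ≠ x a := by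
    have := hcyc 1
    simpa using this
  -- y (x a) ≠ x a
  have hyb : y (x a) ≠ x a := by
    intro h
    -- ρ (x a) = x (y (x a)) = x (x a) = a, and ρ² (x a) = x a
    have e1 : (x * y) (x a) = a := by rw [hρ, h, hxx]
    have e2 : ((x * y) ^ 2) (x a) = x a := by
      have := P_rho_x_rho x y hx hy 2 a
      rw [h2] at this
      exact this
    have e3 : (x * y) a = x a := by
      have : ((x * y) ^ 2) (x a) = (x * y) ((x * y) (x a)) := by rw [pow_two]; rfl
      rw [this, e1] at e2
      exact e2
    exact hρ1 e3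
  refine ⟨hab, ?_, ?_, ?_, ?_, ?_, rfl, rfl, rfl, ?_⟩
  · -- a ≠ y (x a)
    intro h
    apply hρa
    have : y a = x a := by
      have := congrArg y h
      rw [hyy] at this
      exact this
    rw [this, hxx]
  · -- a ≠ x (y (x a))
    intro h
    apply hyb
    have := congrArg x h
    rw [hxx] at this
    exact this.symm
  · -- x a ≠ y (x a)
    exact fun h => hyb h.symm
  · -- x a ≠ x (y (x a))
    intro h
    have h' := x.injective h
    apply hρa
    have : y a = x a := by
      have := congrArg y h'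
      rw [hyy] at this
      exact this
    rw [this, hxx]
  · -- y (x a) ≠ x (y (x a))
    intro h
    -- c := y (x a), x c = c; ρ c = x (y c) = x (x a) = a ⇒ c = ρ a; then ρ (x (ρ a)) = x a gives ρ (ρ a) = x a
    set c := y (x a) with hc
    have e1 : (x * y) c = a := by rw [hρ, hc, hyy, hxx]
    have e2 : c = (x * y) a := by
      apply (x * y).injective
      rw [e1]
      have : (x * y) ((x * y) a) = ((x * y) ^ 2) a := by rw [pow_two]; rfl
      rw [this, h2]
    have e3 := P_rho_x_rho x y hx hy 1 a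
    rw [pow_one, ← e2, ← h, e1] at e3
    exact hab e3
  · -- y (x (y (x a))) = a
    apply ((x * y) ^ 2).injective
    rw [h2, hρ2, hyy, hxx, hyy, hxx]

end Cfsg.Agent.S3265L
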