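import Mathlib
import Cfsg.Agent.Lib.S3265.Defs
import Cfsg.Agent.Lib.S3265.Path

set_option autoImplicit false
set_option linter.unusedSectionVars false
open Equiv Equiv.Perm

namespace Cfsg.Agent.S3265L

variable {α : Type*} [Fintype α] [DecidableEq α]

/-! ## Piece B : the good region (helper9) -/

theorem B_mem_good (x y : Perm α) (a : α) : a ∈ good x y ↔ OddPt (x * y) a := by
  classical
  unfold good
  simp

/-- `ρ^k (y (ρ^k a)) = y a`. -/
theorem B_rho_y_rho (x y : Perm α) (hx : x * x = 1) (hy : y * y = 1) (k : ℕ) (a : α) :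
    ((x * y) ^ k) (y (((x * y) ^ k) a)) = y a := by
  induction k generalizing a with
  | zero => simp
  | succ k ih =>
    have h1 : ((x * y) ^ (k + 1)) a = (x * y) (((x * y) ^ k) a) := by rw [pow_succ']; rfl
    have h2 : ∀ w, ((x * y) ^ (k + 1)) w = ((x * y) ^ k) ((x * y) w) := by
      intro w; rw [pow_succ]; rfl
    rw [h1, h2]
    have h3 : ∀ w, (x * y) (y ((x * y) w)) = y w := by
      intro w
      simp only [Perm.mul_apply]
      rw [P_apply_apply y hy, P_apply_apply x hx]
    rw [h3, ih]

theorem good_inv_x (x y : Perm α) (hx : x * x = 1) (hy : y * y = 1) : Inv x (good x y) := by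
  intro a ha
  rw [B_mem_good] at ha ⊢
  obtain ⟨m, hm, hma⟩ := ha
  refine ⟨m, hm, ?_⟩
  have := P_rho_x_rho x y hx hy m a
  rw [hma] at this
  exact this

theorem good_inv_y (x y : Perm α) (hx : x * x = 1) (hy : y * y = 1) : Inv y (good x y) := by
  intro a ha
  rw [B_mem_good] at ha ⊢
  obtain ⟨m, hm, hma⟩ := ha
  refine ⟨m, hm, ?_⟩
  have := B_rho_y_rho x y hx hy m a
  rw [hma] at this
  exact this

theorem sol_good (x y : Perm α) (hx : x * x = 1) (hy : y * y = 1) : Sol x y (good x y) x := by
  refine ⟨hx, fun a _ => rfl, good_inv_x x y hx hy, ?_, ?_⟩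
  · intro a _
    exact ⟨1, odd_one, by rw [hx]; simp⟩
  · intro a ha
    exact (B_mem_good x y a).1 ha

/-- one inequality of `good_bal`, by an explicit injection. -/
theorem B_card_le (x y : Perm α) (hx : x * x = 1) (hy : y * y = 1) :
    ((good x y).filter (fun a => x a = a)).card ≤ ((good x y).filter (fun a => y a = a)).card := by
  classical
  -- for a good point choose an odd period
  have hex : ∀ a : α, ∃ m : ℕ, a ∈ good x y → (Odd m ∧ ((x * y) ^ m) a = a ∧
      ∀ m' : ℕ, 0 < m' → ((x * y) ^ m') a = a → m ≤ m') := by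
    intro a
    by_cases ha : a ∈ good x y
    · rw [B_mem_good] at ha
      have hex' : ∃ m : ℕ, 0 < m ∧ ((x * y) ^ m) a = a := by
        obtain ⟨m, hm, hma⟩ := ha
        exact ⟨m, hm.pos, hma⟩
      refine ⟨Nat.find hex', fun _ => ⟨?_, (Nat.find_spec hex').2, ?_⟩⟩
      · -- the least period divides every period, hence is odd
        obtain ⟨m, hm, hma⟩ := ha
        set d := Nat.find hex' with hd
        have hdpos : 0 < d := (Nat.find_spec hex').1
        have hda : ((x * y) ^ d) a = a := (Nat.find_spec hex').2
        -- m = d * q + r, r < d, ρ^r a = a ⇒ r = 0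
        have hq : ∀ q : ℕ, ((x * y) ^ (d * q)) a = a := by
          intro q
          induction q with
          | zero => simp
          | succ q ih => rw [Nat.mul_succ, pow_add, Perm.mul_apply, hda, ih]
        have hr : ((x * y) ^ (m % d)) a = a := by
          have e : m = m % d + d * (m / d) := (Nat.mod_add_div m d).symm
          have h1 : ((x * y) ^ m) a = ((x * y) ^ (m % d)) (((x * y) ^ (d * (m / d))) a) := by
            conv_lhs => rw [e, pow_add, Perm.mul_apply]
          rw [hq, hma] at h1
          exact h1.symm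
        have hr0 : m % d = 0 := by
          by_contra hne
          have hlt : m % d < d := Nat.mod_lt _ hdpos
          have := Nat.find_min hex' hlt
          exact this ⟨Nat.pos_of_ne_zero hne, hr⟩
        have hdvd : d ∣ m := Nat.dvd_of_mod_eq_zero hr0
        exact Odd.of_dvd_nat hm hdvd
      · intro m' hm' hma'
        exact Nat.find_min' hex' ⟨hm', hma'⟩
    · exact ⟨0, fun h => absurd h ha⟩
  choose per hper using hex
  -- the injection a ↦ ρ^((per a - 1)/2) a
  let φ : α → α := fun a => ((x * y) ^ ((per a - 1) / 2)) a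
  apply Finset.card_le_card_of_injOn φ
  · intro a ha
    rw [Finset.mem_coe, Finset.mem_filter] at ha ⊢
    obtain ⟨hag, hxa⟩ := ha
    obtain ⟨hodd, hpa, -⟩ := hper a hag
    obtain ⟨t, ht⟩ := hodd
    have ht' : (per a - 1) / 2 = t := by omega
    refine ⟨?_, ?_⟩
    · -- good is invariant under ρ
      show φ a ∈ good x y
      have : ∀ k : ℕ, ((x * y) ^ k) a ∈ good x y := by
        intro k
        induction k with
        | zero => simpa using hag
        | succ k ih =>
          rw [pow_succ', Perm.mul_apply, Perm.mul_apply]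
          exact good_inv_x x y hx hy _ (good_inv_y x y hx hy _ ih)
      exact this _
    · show y (φ a) = φ a
      simp only [φ, ht']
      -- y w = x (ρ w)
      have hyw : ∀ w, y w = x ((x * y) w) := by
        intro w; simp only [Perm.mul_apply]; rw [P_apply_apply x hx]
      rw [hyw]
      have h1 : (x * y) (((x * y) ^ t) a) = ((x * y) ^ (t + 1)) a := by rw [pow_succ']; rfl
      rw [h1]
      apply ((x * y) ^ (t + 1)).injective
      rw [P_rho_x_rho x y hx hy, hxa, ← Perm.mul_apply, ← pow_add]
      have : t + 1 + t = per a := by omega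
      rw [this, hpa]
  · -- injectivity
    intro a ha b hb hab
    rw [Finset.mem_coe, Finset.mem_filter] at ha hb
    obtain ⟨hoa, hpa, hmina⟩ := hper a ha.1
    obtain ⟨hob, hpb, hminb⟩ := hper b hb.1
    simp only [φ] at hab
    -- a and b are in the same ρ-cycle: b = ρ^k a for some k; hence equal least periods
    have hsame : per a = per b := by
      set i := (per a - 1) / 2 with hi
      set j := (per b - 1) / 2 with hj
      -- ρ^(per a) b = b
      have h1 : ((x * y) ^ per a) b = b := by
        apply ((x * y) ^ j).injective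
        rw [← Perm.mul_apply, ← pow_add, add_comm, pow_add, Perm.mul_apply, ← hab, ← Perm.mul_apply,
          ← pow_add, add_comm, pow_add, Perm.mul_apply, hpa]
      have h2 : ((x * y) ^ per b) a = a := by
        apply ((x * y) ^ i).injective
        rw [← Perm.mul_apply, ← pow_add, add_comm, pow_add, Perm.mul_apply, hab, ← Perm.mul_apply,
          ← pow_add, add_comm, pow_add, Perm.mul_apply, hpb]
      have := hminb (per a) hoa.pos h1
      have := hmina (per b) hob.pos h2
      omega
    rw [hsame] at hab
    exact ((x * y) ^ ((per b - 1) / 2)).injective hab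

theorem B_good_symm (x y : Perm α) (hx : x * x = 1) (hy : y * y = 1) : good y x = good x y := by
  classical
  have hxi : x⁻¹ = x := inv_eq_of_mul_eq_one_right hx
  have hyi : y⁻¹ = y := inv_eq_of_mul_eq_one_right hy
  have e1 : (y * x)⁻¹ = x * y := by rw [mul_inv_rev, hxi, hyi]
  have e2 : (x * y)⁻¹ = y * x := by rw [mul_inv_rev, hxi, hyi]
  ext a
  rw [B_mem_good, B_mem_good]
  have hinv : ∀ (g : Perm α) (m : ℕ), (g ^ m) a = a → ((g⁻¹) ^ m) a = a := by
    intro g m h
    rw [inv_pow, Perm.inv_eq_iff_eq, h]
  constructor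
  · rintro ⟨m, hm, h⟩
    refine ⟨m, hm, ?_⟩
    have := hinv (y * x) m h
    rwa [e1] at this
  · rintro ⟨m, hm, h⟩
    refine ⟨m, hm, ?_⟩
    have := hinv (x * y) m h
    rwa [e2] at this

theorem good_bal (x y : Perm α) (hx : x * x = 1) (hy : y * y = 1) : Bal x y (good x y) := by
  unfold Bal
  apply le_antisymm (B_card_le x y hx hy)
  have := B_card_le y x hy hx
  rwa [B_good_symm x y hx hy] at this

end Cfsg.Agent.S3265L
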