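import Mathlib
import Cfsg.Agent.Lib.S3265.Defs

/-!
S3265 piece F (helper2): two bare alternating 4-cycles are solved by
`z = (a b)(b' c')(c a')(d d')`, written as `z = x * p` with
`p = (c b' d')(d c' a')`.
-/

set_option autoImplicit false
set_option linter.unusedVariables false
set_option linter.unusedSectionVars false
open Equiv Equiv.Perm

namespace Cfsg.Agent.S3265L

variable {α : Type*} [Fintype α] [DecidableEq α]

theorem F_inv_apply (x : Perm α) (hx : x * x = 1) (w : α) : x (x w) = w := by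
  have := congrArg (fun g : Perm α => g w) hx
  simpa using this

theorem F_pow3 (g : Perm α) (w : α) : (g ^ 3) w = g (g (g w)) := by
  simp [pow_succ, Perm.mul_apply]

theorem kk_sol (x y : Perm α) (hx : x * x = 1) (hy : y * y = 1) (a b c d a' b' c' d' : α)
    (hK : IsK x y a b c d) (hK' : IsK x y a' b' c' d')
    (hdisj : Disjoint ({a, b, c, d} : Finset α) {a', b', c', d'}) :
    ∃ z : Perm α, Sol x y ({a, b, c, d} ∪ {a', b', c', d'}) z := by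
  obtain ⟨n_a_b, n_a_c, n_a_d, n_b_c, n_b_d, n_c_d, hxa, hxc, hyb, hyd⟩ := hK
  obtain ⟨n_ap_bp, n_ap_cp, n_ap_dp, n_bp_cp, n_bp_dp, n_cp_dp, hxa', hxc', hyb', hyd'⟩ := hK'
  simp only [Finset.disjoint_insert_left, Finset.disjoint_singleton_left, Finset.mem_insert,
    Finset.mem_singleton, not_or] at hdisj
  obtain ⟨⟨n_a_ap, n_a_bp, n_a_cp, n_a_dp⟩, ⟨n_b_ap, n_b_bp, n_b_cp, n_b_dp⟩,
    ⟨n_c_ap, n_c_bp, n_c_cp, n_c_dp⟩, ⟨n_d_ap, n_d_bp, n_d_cp, n_d_dp⟩⟩ := hdisj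
  have hne : a ≠ b ∧ b ≠ a ∧ a ≠ c ∧ c ≠ a ∧ a ≠ d ∧ d ≠ a ∧ a ≠ a' ∧ a' ≠ a ∧ a ≠ b' ∧ b' ≠ a ∧ a ≠ c' ∧ c' ≠ a ∧ a ≠ d' ∧ d' ≠ a ∧ b ≠ c ∧ c ≠ b ∧ b ≠ d ∧ d ≠ b ∧ b ≠ a' ∧ a' ≠ b ∧ b ≠ b' ∧ b' ≠ b ∧ b ≠ c' ∧ c' ≠ b ∧ b ≠ d' ∧ d' ≠ b ∧ c ≠ d ∧ d ≠ c ∧ c ≠ a' ∧ a' ≠ c ∧ c ≠ b' ∧ b' ≠ c ∧ c ≠ c' ∧ c' ≠ c ∧ c ≠ d' ∧ d' ≠ c ∧ d ≠ a' ∧ a' ≠ d ∧ d ≠ b' ∧ b' ≠ d ∧ d ≠ c' ∧ c' ≠ d ∧ d ≠ d' ∧ d' ≠ d ∧ a' ≠ b' ∧ b' ≠ a' ∧ a' ≠ c' ∧ c' ≠ a' ∧ a' ≠ d' ∧ d' ≠ a' ∧ b' ≠ c' ∧ c' ≠ b' ∧ b' ≠ d' ∧ d' ≠ b' ∧ c' ≠ d' ∧ d' ≠ c' :=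
    ⟨n_a_b, Ne.symm n_a_b, n_a_c, Ne.symm n_a_c, n_a_d, Ne.symm n_a_d, n_a_ap, Ne.symm n_a_ap, n_a_bp, Ne.symm n_a_bp, n_a_cp, Ne.symm n_a_cp, n_a_dp, Ne.symm n_a_dp, n_b_c, Ne.symm n_b_c, n_b_d, Ne.symm n_b_d, n_b_ap, Ne.symm n_b_ap, n_b_bp, Ne.symm n_b_bp, n_b_cp, Ne.symm n_b_cp, n_b_dp, Ne.symm n_b_dp, n_c_d, Ne.symm n_c_d, n_c_ap, Ne.symm n_c_ap, n_c_bp, Ne.symm n_c_bp, n_c_cp, Ne.symm n_c_cp, n_c_dp, Ne.symm n_c_dp, n_d_ap, Ne.symm n_d_ap, n_d_bp, Ne.symm n_d_bp, n_d_cp, Ne.symm n_d_cp, n_d_dp, Ne.symm n_d_dp, n_ap_bp, Ne.symm n_ap_bp, n_ap_cp, Ne.symm n_ap_cp, n_ap_dp, Ne.symm n_ap_dp, n_bp_cp, Ne.symm n_bp_cp, n_bp_dp, Ne.symm n_bp_dp, n_cp_dp, Ne.symm n_cp_dp⟩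
  have hxx : ∀ w, x (x w) = w := F_inv_apply x hx
  have hyy : ∀ w, y (y w) = w := F_inv_apply y hy
  have hxb : x b = a := by rw [← hxa, hxx]
  have hxd : x d = c := by rw [← hxc, hxx]
  have hyc : y c = b := by rw [← hyb, hyy]
  have hya : y a = d := by rw [← hyd, hyy]
  have hxb' : x b' = a' := by rw [← hxa', hxx]
  have hxd' : x d' = c' := by rw [← hxc', hxx]
  have hyc' : y c' = b' := by rw [← hyb', hyy]
  have hya' : y a' = d' := by rw [← hyd', hyy]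
  obtain ⟨p, hp⟩ : ∃ p : Perm α, p = (swap c b' * swap b' d') * (swap d c' * swap c' a') :=
    ⟨_, rfl⟩
  have pa : p a = a := by simp [hp, Perm.mul_apply, Equiv.swap_apply_def, hne]
  have pb : p b = b := by simp [hp, Perm.mul_apply, Equiv.swap_apply_def, hne]
  have pc : p c = b' := by simp [hp, Perm.mul_apply, Equiv.swap_apply_def, hne]
  have pd : p d = c' := by simp [hp, Perm.mul_apply, Equiv.swap_apply_def, hne]
  have pa' : p a' = d := by simp [hp, Perm.mul_apply, Equiv.swap_apply_def, hne]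
  have pb' : p b' = d' := by simp [hp, Perm.mul_apply, Equiv.swap_apply_def, hne]
  have pc' : p c' = a' := by simp [hp, Perm.mul_apply, Equiv.swap_apply_def, hne]
  have pd' : p d' = c := by simp [hp, Perm.mul_apply, Equiv.swap_apply_def, hne]
  have hU : ∀ w, w ∈ ({a, b, c, d} ∪ {a', b', c', d'} : Finset α) ↔
      (w = a ∨ w = b ∨ w = c ∨ w = d ∨ w = a' ∨ w = b' ∨ w = c' ∨ w = d') := by
    intro w
    simp only [Finset.mem_union, Finset.mem_insert, Finset.mem_singleton, or_assoc]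
  have pout : ∀ w, w ∉ ({a, b, c, d} ∪ {a', b', c', d'} : Finset α) → p w = w := by
    intro w hw
    rw [hU] at hw
    simp only [not_or] at hw
    obtain ⟨w1, w2, w3, w4, w5, w6, w7, w8⟩ := hw
    simp [hp, Perm.mul_apply, Equiv.swap_apply_def, w3, w4, w5, w6, w7, w8]
  have za : (x * p) a = b := by rw [Perm.mul_apply, pa, hxa]
  have zb : (x * p) b = a := by rw [Perm.mul_apply, pb, hxb]
  have zc : (x * p) c = a' := by rw [Perm.mul_apply, pc, hxb']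
  have zd : (x * p) d = d' := by rw [Perm.mul_apply, pd, hxc']
  have za' : (x * p) a' = c := by rw [Perm.mul_apply, pa', hxd]
  have zb' : (x * p) b' = c' := by rw [Perm.mul_apply, pb', hxd']
  have zc' : (x * p) c' = b' := by rw [Perm.mul_apply, pc', hxa']
  have zd' : (x * p) d' = d := by rw [Perm.mul_apply, pd', hxc]
  have hxU : ∀ w, w ∈ ({a, b, c, d} ∪ {a', b', c', d'} : Finset α) →
      x w ∈ ({a, b, c, d} ∪ {a', b', c', d'} : Finset α) := by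
    intro w hw
    rw [hU] at hw ⊢
    rcases hw with rfl | rfl | rfl | rfl | rfl | rfl | rfl | rfl
    · rw [hxa]; simp
    · rw [hxb]; simp
    · rw [hxc]; simp
    · rw [hxd]; simp
    · rw [hxa']; simp
    · rw [hxb']; simp
    · rw [hxc']; simp
    · rw [hxd']; simp
  refine ⟨x * p, ?_, ?_, ?_, ?_, ?_⟩
  · -- involution
    ext w
    show (x * p) ((x * p) w) = w
    by_cases hw : w ∈ ({a, b, c, d} ∪ {a', b', c', d'} : Finset α)
    · rcases (hU w).1 hw with rfl | rfl | rfl | rfl | rfl | rfl | rfl | rfl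
      · rw [za, zb]
      · rw [zb, za]
      · rw [zc, za']
      · rw [zd, zd']
      · rw [za', zc]
      · rw [zb', zc']
      · rw [zc', zb']
      · rw [zd', zd]
    · have h1 : (x * p) w = x w := by rw [Perm.mul_apply, pout w hw]
      have h2 : x w ∉ ({a, b, c, d} ∪ {a', b', c', d'} : Finset α) := by
        intro h
        have := hxU _ h
        rw [hxx] at this
        exact hw this
      rw [h1, Perm.mul_apply, pout _ h2, hxx]
  · intro w hw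
    rw [Perm.mul_apply, pout w hw]
  · intro w hw
    rw [hU] at hw ⊢
    rcases hw with rfl | rfl | rfl | rfl | rfl | rfl | rfl | rfl
    · rw [za]; simp
    · rw [zb]; simp
    · rw [zc]; simp
    · rw [zd]; simp
    · rw [za']; simp
    · rw [zb']; simp
    · rw [zc']; simp
    · rw [zd']; simp
  · intro w hw
    have hxz : x * (x * p) = p := by rw [← mul_assoc, hx, one_mul]
    rw [hxz]
    refine ⟨3, by decide, ?_⟩
    rw [F_pow3]
    rcases (hU w).1 hw with rfl | rfl | rfl | rfl | rfl | rfl | rfl | rfl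
    · rw [pa, pa, pa]
    · rw [pb, pb, pb]
    · rw [pc, pb', pd']
    · rw [pd, pc', pa']
    · rw [pa', pd, pc']
    · rw [pb', pd', pc]
    · rw [pc', pa', pd]
    · rw [pd', pc, pb']
  · intro w hw
    refine ⟨3, by decide, ?_⟩
    rw [F_pow3]
    simp only [Perm.mul_apply x p] at za zb zc zd za' zb' zc' zd'
    rcases (hU w).1 hw with rfl | rfl | rfl | rfl | rfl | rfl | rfl | rfl
    · simp only [Perm.mul_apply, hya, zd, hyd', za', hyc, zb]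
    · simp only [Perm.mul_apply, hyb, zc, hya', zd', hyd, za]
    · simp only [Perm.mul_apply, hyc, zb, hya, zd, hyd', za']
    · simp only [Perm.mul_apply, hyd, za, hyb, zc, hya', zd']
    · simp only [Perm.mul_apply, hya', zd', hyd, za, hyb, zc]
    · simp only [Perm.mul_apply, hyb', zc']
    · simp only [Perm.mul_apply, hyc', zb']
    · simp only [Perm.mul_apply, hyd', za', hyc, zb, hya, zd]

end Cfsg.Agent.S3265L
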