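import Mathlib
import Cfsg.Agent.Lib.S3265.Defs

set_option autoImplicit false
set_option linter.unusedSectionVars false
open Equiv Equiv.Perm

namespace Cfsg.Agent.S3265L

variable {α : Type*} [Fintype α] [DecidableEq α]

open scoped Classical in
/-- the `σ`-orbit of `a` as a finset. -/
noncomputable def Csw_orb (σ : Perm α) (a : α) : Finset α :=
  Finset.univ.filter (fun b => σ.SameCycle a b)

theorem Csw_mem_orb {σ : Perm α} {a b : α} : b ∈ Csw_orb σ a ↔ σ.SameCycle a b := by
  simp [Csw_orb]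

theorem Csw_self_mem (σ : Perm α) (a : α) : a ∈ Csw_orb σ a := Csw_mem_orb.mpr (SameCycle.refl σ a)

theorem Csw_isCycleOn (σ : Perm α) (a : α) : σ.IsCycleOn (Csw_orb σ a : Set α) := by
  refine ⟨⟨?_, σ.injective.injOn, ?_⟩, ?_⟩
  · intro b hb
    have hb' : σ.SameCycle a b := Csw_mem_orb.mp hb
    exact Csw_mem_orb.mpr (sameCycle_apply_right.mpr hb')
  · intro b hb
    have hb' : σ.SameCycle a b := Csw_mem_orb.mp hb
    refine ⟨σ.symm b, Csw_mem_orb.mpr (sameCycle_symm_apply_right.mpr hb'), by simp⟩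
  · intro b hb c hc
    exact (Csw_mem_orb.mp hb).symm.trans (Csw_mem_orb.mp hc)

theorem Csw_zpow_mem (σ : Perm α) (a : α) (k : ℤ) : (σ ^ k) a ∈ Csw_orb σ a :=
  Csw_mem_orb.mpr ⟨k, rfl⟩

theorem Csw_pow_mem (σ : Perm α) (a : α) (k : ℕ) : (σ ^ k) a ∈ Csw_orb σ a := by
  have := Csw_zpow_mem σ a (k : ℤ)
  simpa using this

theorem Csw_orb_inv (σ : Perm α) (a : α) : Csw_orb σ⁻¹ a = Csw_orb σ a := by
  ext b
  rw [Csw_mem_orb, Csw_mem_orb, sameCycle_inv]

theorem Csw_inv_self {v : Perm α} (hv : v * v = 1) : v⁻¹ = v := inv_eq_of_mul_eq_one_right hv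

theorem Csw_invol_apply {v : Perm α} (hv : v * v = 1) (b : α) : v (v b) = b := by
  have := congrArg (fun f : Perm α => f b) hv
  simpa [Perm.mul_apply] using this

/-- `v σ^k = σ^{-k} v` for `σ = u * v`. -/
theorem Csw_conj_v (u v : Perm α) (hu : u * u = 1) (hv : v * v = 1) (k : ℤ) (b : α) :
    v (((u * v) ^ k) b) = ((u * v) ^ (-k)) (v b) := by
  have hvinv := Csw_inv_self hv
  have huinv := Csw_inv_self hu
  have h1 : v * (u * v) * v⁻¹ = (u * v)⁻¹ := by
    calc v * (u * v) * v⁻¹ = v * u := by group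
      _ = (u * v)⁻¹ := by rw [mul_inv_rev, hvinv, huinv]
  have h2 : v * (u * v) ^ k * v⁻¹ = (u * v) ^ (-k) := by
    rw [← conj_zpow, h1, inv_zpow, zpow_neg]
  have h3 : v * (u * v) ^ k = (u * v) ^ (-k) * v := by
    rw [← h2]; group
  have := congrArg (fun f : Perm α => f b) h3
  simpa [Perm.mul_apply] using this

/-- `u σ^k = σ^{-k} u` for `σ = u * v`. -/
theorem Csw_conj_u (u v : Perm α) (hu : u * u = 1) (hv : v * v = 1) (k : ℤ) (b : α) :
    u (((u * v) ^ k) b) = ((u * v) ^ (-k)) (u b) := by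
  have hvinv := Csw_inv_self hv
  have huinv := Csw_inv_self hu
  have h1 : u * (u * v) * u⁻¹ = (u * v)⁻¹ := by
    calc u * (u * v) * u⁻¹ = (u * u) * v * u⁻¹ := by group
      _ = v * u := by rw [hu, one_mul, huinv]
      _ = (u * v)⁻¹ := by rw [mul_inv_rev, hvinv, huinv]
  have h2 : u * (u * v) ^ k * u⁻¹ = (u * v) ^ (-k) := by
    rw [← conj_zpow, h1, inv_zpow, zpow_neg]
  have h3 : u * (u * v) ^ k = (u * v) ^ (-k) * u := by
    rw [← h2]; group
  have := congrArg (fun f : Perm α => f b) h3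
  simpa [Perm.mul_apply] using this

section orbit
variable (u v : Perm α) (hu : u * u = 1) (hv : v * v = 1) (a : α) (hva : v a = a)
  (hodd : ¬ OddPt (u * v) a)

include hva in
theorem Csw_u_apply : u a = (u * v) a := by rw [Perm.mul_apply, hva]

include hodd in
theorem Csw_even_card : Even (Csw_orb (u * v) a).card := by
  by_contra h
  rw [Nat.not_even_iff_odd] at h
  exact hodd ⟨_, h, (Csw_isCycleOn (u * v) a).pow_card_apply (Csw_self_mem _ a)⟩

include hodd in
theorem Csw_two_le_card : 2 ≤ (Csw_orb (u * v) a).card := by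
  have h1 : 0 < (Csw_orb (u * v) a).card := Finset.card_pos.mpr ⟨a, Csw_self_mem _ a⟩
  obtain ⟨r, hr⟩ := Csw_even_card u v a hodd
  omega

include hu hv hva in
theorem Csw_inv_v : ∀ b ∈ Csw_orb (u * v) a, v b ∈ Csw_orb (u * v) a := by
  intro b hb
  obtain ⟨k, rfl⟩ := Csw_mem_orb.mp hb
  rw [Csw_conj_v u v hu hv, hva]
  exact Csw_zpow_mem _ _ _

include hu hv hva in
theorem Csw_inv_u : ∀ b ∈ Csw_orb (u * v) a, u b ∈ Csw_orb (u * v) a := by
  intro b hb
  obtain ⟨k, rfl⟩ := Csw_mem_orb.mp hb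
  rw [Csw_conj_u u v hu hv, Csw_u_apply u v a hva]
  have : ((u * v) ^ (-k)) ((u * v) a) = ((u * v) ^ (-k + 1)) a := by
    rw [zpow_add, zpow_one]; rfl
  rw [this]
  exact Csw_zpow_mem _ _ _

include hu hv hva hodd in
theorem Csw_no_u_fixed : ∀ b ∈ Csw_orb (u * v) a, u b ≠ b := by
  intro b hb hfix
  obtain ⟨k, rfl⟩ := Csw_mem_orb.mp hb
  rw [Csw_conj_u u v hu hv, Csw_u_apply u v a hva] at hfix
  have h1 : ((u * v) ^ (-k)) ((u * v) a) = ((u * v) ^ (-k + 1)) a := by
    rw [zpow_add, zpow_one]; rfl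
  rw [h1] at hfix
  have h2 := ((Csw_isCycleOn (u * v) a).zpow_apply_eq_zpow_apply (Csw_self_mem _ a)).mp hfix
  have h3 := h2.dvd
  obtain ⟨r, hr⟩ := Csw_even_card u v a hodd
  rw [hr] at h3
  have h4 : (2 : ℤ) ∣ k - (-k + 1) := Dvd.dvd.trans ⟨r, by push_cast; ring⟩ h3
  omega

include hu hv hva hodd in
theorem Csw_v_fixed_card : ((Csw_orb (u * v) a).filter (fun b => v b = b)).card = 2 := by
  have hcyc := Csw_isCycleOn (u * v) a
  have haS : a ∈ Csw_orb (u * v) a := Csw_self_mem _ a
  obtain ⟨h, hh⟩ := Csw_even_card u v a hodd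
  have h2 := Csw_two_le_card u v a hodd
  have hhpos : 0 < h := by omega
  have hcS : ((u * v) ^ h) a ∈ Csw_orb (u * v) a := Csw_pow_mem (u * v) a h
  have hca : a ≠ ((u * v) ^ h) a := by
    intro hac
    have h3 := (hcyc.pow_apply_eq haS).mp hac.symm
    have h4 := Nat.le_of_dvd hhpos h3
    omega
  have hcz : ((u * v) ^ h) a = ((u * v) ^ (h : ℤ)) a := by simp
  have hvc : v (((u * v) ^ h) a) = ((u * v) ^ h) a := by
    rw [hcz, Csw_conj_v u v hu hv, hva]
    apply (hcyc.zpow_apply_eq_zpow_apply haS).mpr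
    apply Int.ModEq.symm
    apply (Int.modEq_iff_dvd).mpr
    refine ⟨-1, ?_⟩
    rw [hh]
    push_cast
    ring
  have hfilter : (Csw_orb (u * v) a).filter (fun b => v b = b) = {a, ((u * v) ^ h) a} := by
    ext b
    simp only [Finset.mem_filter, Finset.mem_insert, Finset.mem_singleton]
    constructor
    · rintro ⟨hb, hvb⟩
      obtain ⟨k, rfl⟩ := Csw_mem_orb.mp hb
      rw [Csw_conj_v u v hu hv, hva] at hvb
      have h3 := ((hcyc.zpow_apply_eq_zpow_apply haS).mp hvb).dvd
      rw [hh] at h3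
      obtain ⟨j, hj⟩ := h3
      push_cast at hj
      have hk : k = h * j := by linarith
      rcases Int.even_or_odd' j with ⟨i, hi | hi⟩
      · left
        apply (hcyc.zpow_apply_eq haS).mpr
        rw [hh]
        refine ⟨i, ?_⟩
        rw [hk, hi]; push_cast; ring
      · right
        rw [hcz]
        apply (hcyc.zpow_apply_eq_zpow_apply haS).mpr
        apply Int.ModEq.symm
        apply (Int.modEq_iff_dvd).mpr
        rw [hh]
        refine ⟨i, ?_⟩
        rw [hk, hi]; push_cast; ring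
    · rintro (rfl | rfl)
      · exact ⟨haS, hva⟩
      · exact ⟨hcS, hvc⟩
  rw [hfilter, Finset.card_pair hca]

end orbit

/-- `U` invariant under `x` and `y` is invariant under all integer powers of `x * y`. -/
theorem Csw_zpow_mem_of_inv (x y : Perm α) (hx : x * x = 1) (hy : y * y = 1) (U : Finset α)
    (hxU : Inv x U) (hyU : Inv y U) (k : ℤ) (b : α) (hb : b ∈ U) : ((x * y) ^ k) b ∈ U := by
  have hpos : ∀ n : ℕ, ∀ b ∈ U, ((x * y) ^ n) b ∈ U := by
    intro n
    induction n with
    | zero => intro b hb; simpa using hb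
    | succ n ih =>
      intro b hb
      rw [pow_succ', Perm.mul_apply, Perm.mul_apply]
      exact hxU _ (hyU _ (ih b hb))
  have hinv : (x * y)⁻¹ = y * x := by
    rw [mul_inv_rev, Csw_inv_self hx, Csw_inv_self hy]
  have hneg : ∀ n : ℕ, ∀ b ∈ U, ((y * x) ^ n) b ∈ U := by
    intro n
    induction n with
    | zero => intro b hb; simpa using hb
    | succ n ih =>
      intro b hb
      rw [pow_succ', Perm.mul_apply, Perm.mul_apply]
      exact hyU _ (hxU _ (ih b hb))
  cases k with
  | ofNat n => simpa using hpos n b hb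
  | negSucc n =>
    rw [zpow_negSucc, ← inv_pow, hinv]
    exact hneg _ b hb

theorem Csw_oddPt_swap (x y : Perm α) (hx : x * x = 1) (hy : y * y = 1) (q : α)
    (hq' : ¬ OddPt (x * y) q) : ¬ OddPt (y * x) q := by
  rintro ⟨m, hm, hfix⟩
  apply hq'
  refine ⟨m, hm, ?_⟩
  have hinv : (x * y)⁻¹ = y * x := by
    rw [mul_inv_rev, Csw_inv_self hx, Csw_inv_self hy]
  rw [← hinv, inv_pow] at hfix
  exact (Perm.inv_eq_iff_eq.mp hfix).symm

theorem Csw_pow_comm (ζ : Perm α) (m k : ℕ) (b : α) : (ζ ^ m) ((ζ ^ k) b) = (ζ ^ k) ((ζ ^ m) b) := by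
  rw [← Perm.mul_apply, ← Perm.mul_apply, ← pow_add, ← pow_add, add_comm]

/-- Piece C: the switch move (M1). -/
theorem switch_sol (x y : Perm α) (hx : x * x = 1) (hy : y * y = 1) (p q : α)
    (hp : y p = p) (hp' : ¬ OddPt (x * y) p) (hq : x q = q) (hq' : ¬ OddPt (x * y) q) :
    ∃ (O : Finset α) (z : Perm α), p ∈ O ∧ q ∈ O ∧ Inv x O ∧ Inv y O ∧
      (∀ U : Finset α, Inv x U → Inv y U → p ∈ U → q ∈ U → O ⊆ U) ∧ Bal x y O ∧ Sol x y O z := by
  have hxx := Csw_invol_apply hx
  have hyy := Csw_invol_apply hy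
  have hinv : (x * y)⁻¹ = y * x := by
    rw [mul_inv_rev, Csw_inv_self hx, Csw_inv_self hy]
  have hq'' := Csw_oddPt_swap x y hx hy q hq'
  -- the two orbits
  have hSq_eq : Csw_orb (y * x) q = Csw_orb (x * y) q := by rw [← hinv, Csw_orb_inv]
  have hcp := Csw_isCycleOn (x * y) p
  have hcq := Csw_isCycleOn (x * y) q
  have hpS : p ∈ Csw_orb (x * y) p := Csw_self_mem _ p
  have hqS : q ∈ Csw_orb (x * y) q := Csw_self_mem _ q
  obtain ⟨N, hN⟩ := Csw_even_card x y p hp'
  have hN2 := Csw_two_le_card x y p hp'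
  obtain ⟨N', hN'⟩ := Csw_even_card y x q hq''
  have hN'2 := Csw_two_le_card y x q hq''
  rw [hSq_eq] at hN' hN'2
  -- invariance
  have hxSp := Csw_inv_u x y hx hy p hp
  have hySp := Csw_inv_v x y hx hy p hp
  have hySq : ∀ b ∈ Csw_orb (x * y) q, y b ∈ Csw_orb (x * y) q := by
    have := Csw_inv_u y x hy hx q hq
    rwa [hSq_eq] at this
  have hxSq : ∀ b ∈ Csw_orb (x * y) q, x b ∈ Csw_orb (x * y) q := by
    have := Csw_inv_v y x hy hx q hq
    rwa [hSq_eq] at this
  have hnoxp := Csw_no_u_fixed x y hx hy p hp hp'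
  have hnoyq : ∀ b ∈ Csw_orb (x * y) q, y b ≠ b := by
    have := Csw_no_u_fixed y x hy hx q hq hq''
    rwa [hSq_eq] at this
  have hcardyp := Csw_v_fixed_card x y hx hy p hp hp'
  have hcardxq : ((Csw_orb (x * y) q).filter (fun b => x b = b)).card = 2 := by
    have := Csw_v_fixed_card y x hy hx q hq hq''
    rwa [hSq_eq] at this
  -- p' = x p = ρ p
  have hp1 : x p = (x * y) p := Csw_u_apply x y p hp
  have hp'S : x p ∈ Csw_orb (x * y) p := hxSp p hpS
  have hpp' : x p ≠ p := hnoxp p hpS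
  have hqnot : q ∉ Csw_orb (x * y) p := fun h => hnoxp q h hq
  have hdisj : ∀ b, b ∈ Csw_orb (x * y) p → b ∈ Csw_orb (x * y) q → False := by
    intro b hb1 hb2
    apply hqnot
    exact Csw_mem_orb.mpr ((Csw_mem_orb.mp hb1).trans (Csw_mem_orb.mp hb2).symm)
  have hqp : q ≠ p := fun h => hqnot (h ▸ hpS)
  have hqp' : q ≠ x p := fun h => hqnot (h ▸ hp'S)
  -- the involution z
  set z : Perm α := x * swap p (x p) * swap p q with hz
  have hzq : z q = p := by
    rw [hz, Perm.mul_apply, Perm.mul_apply, swap_apply_right, swap_apply_left, hxx]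
  have hzp : z p = q := by
    rw [hz, Perm.mul_apply, Perm.mul_apply, swap_apply_left,
      swap_apply_of_ne_of_ne hqp hqp', hq]
  have hzp' : z (x p) = x p := by
    rw [hz, Perm.mul_apply, Perm.mul_apply, swap_apply_of_ne_of_ne hpp' hqp'.symm,
      swap_apply_right]
  have hzother : ∀ w, w ≠ p → w ≠ q → w ≠ x p → z w = x w := by
    intro w h1 h2 h3
    rw [hz, Perm.mul_apply, Perm.mul_apply, swap_apply_of_ne_of_ne h1 h2,
      swap_apply_of_ne_of_ne h1 h3]
  have hzz : z * z = 1 := by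
    ext w
    rw [Perm.mul_apply, Perm.one_apply]
    by_cases h1 : w = p
    · rw [h1, hzp, hzq]
    by_cases h2 : w = q
    · rw [h2, hzq, hzp]
    by_cases h3 : w = x p
    · rw [h3, hzp', hzp']
    rw [hzother w h1 h2 h3]
    have h4 : x w ≠ p := fun h => h3 (by rw [← h, hxx])
    have h5 : x w ≠ q := fun h => h2 (by rw [← hxx w, h, hq])
    have h6 : x w ≠ x p := fun h => h1 (x.injective h)
    rw [hzother _ h4 h5 h6, hxx]
  -- ζ = z * y in terms of ρ
  have hζ1 : ∀ w, (x * y) w ≠ p → (x * y) w ≠ q → (x * y) w ≠ x p → (z * y) w = (x * y) w := by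
    intro w h1 h2 h3
    rw [Perm.mul_apply, Perm.mul_apply]
    rw [Perm.mul_apply] at h1 h2 h3
    apply hzother
    · intro h; apply h3; rw [h]
    · intro h; apply h2; rw [h, hq]
    · intro h; apply h1; rw [h, hxx]
  have hζ2 : ∀ w, (x * y) w = p → (z * y) w = x p := by
    intro w h
    rw [Perm.mul_apply] at h
    have : y w = x p := by rw [← h, hxx]
    rw [Perm.mul_apply, this, hzp']
  have hζ3 : ∀ w, (x * y) w = q → (z * y) w = p := by
    intro w h
    rw [Perm.mul_apply] at h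
    have : y w = q := by rw [← hxx (y w), h, hq]
    rw [Perm.mul_apply, this, hzq]
  have hζ4 : (z * y) p = q := by
    rw [Perm.mul_apply, hp, hzp]
  -- iterates on the first cycle
  have hD1 : ∀ m : ℕ, 2 ≤ m → m + 1 ≤ N + N →
      ((x * y) ^ m) p ≠ p ∧ ((x * y) ^ m) p ≠ q ∧ ((x * y) ^ m) p ≠ x p := by
    intro m hm1 hm2
    refine ⟨?_, ?_, ?_⟩
    · intro h
      have h1 := (hcp.pow_apply_eq hpS).mp h
      rw [hN] at h1
      have := Nat.le_of_dvd (by omega) h1
      omega
    · intro h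
      exact hqnot (h ▸ Csw_pow_mem _ p m)
    · intro h
      rw [hp1] at h
      have h0 : ((x * y) ^ m) p = ((x * y) ^ 1) p := by rw [h, pow_one]
      have h1 := (hcp.pow_apply_eq_pow_apply hpS).mp h0
      rw [hN] at h1
      have := Nat.ModEq.eq_of_lt_of_lt h1 (by omega) (by omega)
      omega
  have hit1 : ∀ j : ℕ, j + 2 ≤ N + N → ((z * y) ^ j) (x p) = ((x * y) ^ (j + 1)) p := by
    intro j
    induction j with
    | zero => intro _; rw [pow_zero, Perm.one_apply, zero_add, pow_one, hp1]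
    | succ j ih =>
      intro hj
      rw [pow_succ', Perm.mul_apply, ih (by omega)]
      obtain ⟨h1, h2, h3⟩ := hD1 (j + 1 + 1) (by omega) (by omega)
      have hstep : (x * y) (((x * y) ^ (j + 1)) p) = ((x * y) ^ (j + 1 + 1)) p := by
        rw [pow_succ' (x * y) (j + 1)]; rfl
      rw [hζ1 _ (by rw [hstep]; exact h1) (by rw [hstep]; exact h2) (by rw [hstep]; exact h3),
        hstep]
  have hclose1 : ((z * y) ^ (N + N - 1)) (x p) = x p := by
    have h1 : N + N - 1 = (N + N - 2) + 1 := by omega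
    rw [h1, pow_succ', Perm.mul_apply, hit1 (N + N - 2) (by omega)]
    apply hζ2
    rw [← Perm.mul_apply, ← pow_succ']
    have h2 : N + N - 2 + 1 + 1 = N + N := by omega
    rw [h2, ← hN]
    exact hcp.pow_card_apply hpS
  -- iterates on the second cycle
  have hD2 : ∀ m : ℕ, 1 ≤ m → m + 1 ≤ N' + N' →
      ((x * y) ^ m) q ≠ p ∧ ((x * y) ^ m) q ≠ q ∧ ((x * y) ^ m) q ≠ x p := by
    intro m hm1 hm2
    refine ⟨?_, ?_, ?_⟩
    · intro h
      exact hdisj p hpS (h ▸ Csw_pow_mem _ q m)
    · intro h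
      have h1 := (hcq.pow_apply_eq hqS).mp h
      rw [hN'] at h1
      have := Nat.le_of_dvd (by omega) h1
      omega
    · intro h
      exact hdisj (x p) hp'S (h ▸ Csw_pow_mem _ q m)
  have hit2 : ∀ j : ℕ, j + 1 ≤ N' + N' → ((z * y) ^ j) q = ((x * y) ^ j) q := by
    intro j
    induction j with
    | zero => intro _; rfl
    | succ j ih =>
      intro hj
      rw [pow_succ', Perm.mul_apply, ih (by omega)]
      obtain ⟨h1, h2, h3⟩ := hD2 (j + 1) (by omega) (by omega)
      have hstep : (x * y) (((x * y) ^ j) q) = ((x * y) ^ (j + 1)) q := by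
        rw [pow_succ' (x * y) j]; rfl
      rw [hζ1 _ (by rw [hstep]; exact h1) (by rw [hstep]; exact h2)
        (by rw [hstep]; exact h3), hstep]
  have hmid2 : ((z * y) ^ (N' + N')) q = p := by
    have h1 : N' + N' = (N' + N' - 1) + 1 := by omega
    rw [h1, pow_succ', Perm.mul_apply, hit2 (N' + N' - 1) (by omega)]
    apply hζ3
    rw [← Perm.mul_apply, ← pow_succ']
    have h2 : N' + N' - 1 + 1 = N' + N' := by omega
    rw [h2, ← hN']
    exact hcq.pow_card_apply hqS
  have hclose2 : ((z * y) ^ (N' + N' + 1)) q = q := by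
    rw [pow_succ', Perm.mul_apply, hmid2, hζ4]
  -- assemble
  refine ⟨Csw_orb (x * y) p ∪ Csw_orb (x * y) q, z, Finset.mem_union_left _ hpS,
    Finset.mem_union_right _ hqS, ?_, ?_, ?_, ?_, ?_⟩
  · intro b hb
    rcases Finset.mem_union.mp hb with h | h
    · exact Finset.mem_union_left _ (hxSp b h)
    · exact Finset.mem_union_right _ (hxSq b h)
  · intro b hb
    rcases Finset.mem_union.mp hb with h | h
    · exact Finset.mem_union_left _ (hySp b h)
    · exact Finset.mem_union_right _ (hySq b h)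
  · intro U hxU hyU hpU hqU b hb
    rcases Finset.mem_union.mp hb with h | h
    · obtain ⟨k, rfl⟩ := Csw_mem_orb.mp h
      exact Csw_zpow_mem_of_inv x y hx hy U hxU hyU k p hpU
    · obtain ⟨k, rfl⟩ := Csw_mem_orb.mp h
      exact Csw_zpow_mem_of_inv x y hx hy U hxU hyU k q hqU
  · -- Bal
    unfold Bal
    rw [Finset.filter_union, Finset.filter_union]
    have h1 : (Csw_orb (x * y) p).filter (fun a => x a = a) = ∅ := by
      apply Finset.filter_eq_empty_iff.mpr
      intro b hb
      exact hnoxp b hb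
    have h2 : (Csw_orb (x * y) q).filter (fun a => y a = a) = ∅ := by
      apply Finset.filter_eq_empty_iff.mpr
      intro b hb
      exact hnoyq b hb
    rw [h1, h2, Finset.empty_union, Finset.union_empty, hcardxq, hcardyp]
  · -- Sol
    refine ⟨hzz, ?_, ?_, ?_, ?_⟩
    · intro b hb
      apply hzother
      · intro h; apply hb; rw [h]; exact Finset.mem_union_left _ hpS
      · intro h; apply hb; rw [h]; exact Finset.mem_union_right _ hqS
      · intro h; apply hb; rw [h]; exact Finset.mem_union_left _ hp'S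
    · intro b hb
      by_cases h1 : b = p
      · rw [h1, hzp]; exact Finset.mem_union_right _ hqS
      by_cases h2 : b = q
      · rw [h2, hzq]; exact Finset.mem_union_left _ hpS
      by_cases h3 : b = x p
      · rw [h3, hzp']; exact Finset.mem_union_left _ hp'S
      rw [hzother b h1 h2 h3]
      rcases Finset.mem_union.mp hb with h | h
      · exact Finset.mem_union_left _ (hxSp b h)
      · exact Finset.mem_union_right _ (hxSq b h)
    · -- x * z has order dividing 3
      intro b _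
      refine ⟨3, by decide, ?_⟩
      have hxz : x * z = swap p (x p) * swap p q := by
        rw [hz, ← mul_assoc, ← mul_assoc, hx, one_mul]
      have h3c : (swap p (x p) * swap p q).IsThreeCycle :=
        isThreeCycle_swap_mul_swap_same hpp'.symm hqp.symm hqp'.symm
      have h3 : (x * z) ^ 3 = 1 := by
        rw [hxz, ← h3c.orderOf, pow_orderOf_eq_one]
      rw [h3, Perm.one_apply]
    · -- z * y
      intro b hb
      rcases Finset.mem_union.mp hb with h | h
      · obtain ⟨k, hk, rfl⟩ := hcp.exists_pow_eq hpS h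
        rw [hN] at hk
        rcases Nat.eq_zero_or_pos k with hk0 | hk0
        · -- b = p = ζ^{N'+N'} q
          subst hk0
          rw [pow_zero, Perm.one_apply]
          refine ⟨N' + N' + 1, ⟨N', by ring⟩, ?_⟩
          rw [← hmid2, Csw_pow_comm, hclose2]
        · refine ⟨N + N - 1, ⟨N - 1, by omega⟩, ?_⟩
          have hk1 : ((x * y) ^ k) p = ((z * y) ^ (k - 1)) (x p) := by
            rw [hit1 (k - 1) (by omega)]
            congr 2
            omega
          rw [hk1, Csw_pow_comm, hclose1]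
      · obtain ⟨k, hk, rfl⟩ := hcq.exists_pow_eq hqS h
        rw [hN'] at hk
        refine ⟨N' + N' + 1, ⟨N', by ring⟩, ?_⟩
        rw [← hit2 k (by omega), Csw_pow_comm, hclose2]

end Cfsg.Agent.S3265L
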