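import Mathlib
import Cfsg.Agent.Lib.S3265.Defs

set_option autoImplicit false
set_option linter.unusedSimpArgs false
open Equiv Equiv.Perm

namespace Cfsg.Agent.S3265L

variable {α : Type*} [Fintype α] [DecidableEq α]

omit [Fintype α] in
/-- the window involution on six points `p i`, `q i = x (p i)` : `(p0 p1)(q0 q2)(q1 p2)` -/
theorem D_exists_z (x : Perm α) (hx : x * x = 1) (p q : Fin 3 → α)
    (hxp : ∀ i, x (p i) = q i) (hp : Function.Injective p) (hpq : ∀ i j, p i ≠ q j) :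
    ∃ z : Perm α, z (p 0) = p 1 ∧ z (p 1) = p 0 ∧ z (q 0) = q 2 ∧ z (q 2) = q 0 ∧
      z (q 1) = p 2 ∧ z (p 2) = q 1 ∧
      ∀ w, (∀ i, w ≠ p i) → (∀ i, w ≠ q i) → z w = x w := by
  have hxx : ∀ w, x (x w) = w := fun w => by
    have := congrArg (fun g : Perm α => g w) hx
    simpa using this
  have hxq : ∀ i, x (q i) = p i := fun i => by rw [← hxp i, hxx]
  have hq : Function.Injective q := by
    intro i j h
    apply hp
    rw [← hxq i, ← hxq j, h]
  have hqp : ∀ i j, q i ≠ p j := fun i j h => hpq j i h.symm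
  refine ⟨x * (swap (p 0) (q 0) * swap (p 1) (q 1) * swap (p 2) (q 2)) *
    (swap (p 0) (p 1) * swap (q 0) (q 2) * swap (q 1) (p 2)), ?_, ?_, ?_, ?_, ?_, ?_, ?_⟩
  · simp [Perm.mul_apply, swap_apply_def, hp.eq_iff, hq.eq_iff, hpq, hqp, hxp, hxq]
  · simp [Perm.mul_apply, swap_apply_def, hp.eq_iff, hq.eq_iff, hpq, hqp, hxp, hxq]
  · simp [Perm.mul_apply, swap_apply_def, hp.eq_iff, hq.eq_iff, hpq, hqp, hxp, hxq]
  · simp [Perm.mul_apply, swap_apply_def, hp.eq_iff, hq.eq_iff, hpq, hqp, hxp, hxq]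
  · simp [Perm.mul_apply, swap_apply_def, hp.eq_iff, hq.eq_iff, hpq, hqp, hxp, hxq]
  · simp [Perm.mul_apply, swap_apply_def, hp.eq_iff, hq.eq_iff, hpq, hqp, hxp, hxq]
  · intro w hwp hwq
    simp [Perm.mul_apply, swap_apply_def, hwp, hwq]

omit [Fintype α] [DecidableEq α] in
/-- points on the cycle of a point of odd period have odd period -/
theorem D_pow_fix (σ : Perm α) (u : α) (n i : ℕ) (h : (σ ^ n) u = u) :
    (σ ^ n) ((σ ^ i) u) = (σ ^ i) u := by
  rw [← Perm.mul_apply, ← pow_add, add_comm, pow_add, Perm.mul_apply, h]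

theorem window_sol (x y : Perm α) (hx : x * x = 1) (hy : y * y = 1) (a : α) (ha : ¬ OddPt (x * y) a)
    (hcyc : ∀ j : ℕ, ((x * y) ^ j) a ≠ x a) (h4 : ((x * y) ^ 2) a ≠ a) :
    ∃ (O : Finset α) (z : Perm α), a ∈ O ∧ Inv x O ∧ Inv y O ∧
      (∀ U : Finset α, Inv x U → Inv y U → a ∈ U → O ⊆ U) ∧ (∀ b ∈ O, x b ≠ b ∧ y b ≠ b) ∧
      Sol x y O z := by
  classical
  have hxx : ∀ w, x (x w) = w := fun w => by
    have := congrArg (fun g : Perm α => g w) hx
    simpa using this
  have hyy : ∀ w, y (y w) = w := fun w => by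
    have := congrArg (fun g : Perm α => g w) hy
    simpa using this
  obtain ⟨ρ, hρ⟩ : ∃ ρ : Perm α, ρ = x * y := ⟨_, rfl⟩
  rw [← hρ] at ha hcyc h4
  have hρa : ∀ w, ρ w = x (y w) := fun w => by rw [hρ]; rfl
  obtain ⟨e, he⟩ : ∃ e : ℕ → α, ∀ k, e k = (ρ ^ k) a := ⟨fun k => (ρ ^ k) a, fun k => rfl⟩
  obtain ⟨f, hf⟩ : ∃ f : ℕ → α, ∀ k, f k = x (e k) := ⟨fun k => x (e k), fun k => rfl⟩
  have he0 : e 0 = a := by rw [he]; simp
  have he_succ : ∀ k, e (k + 1) = ρ (e k) := by
    intro k; rw [he, he, pow_succ', Perm.mul_apply]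
  have hxe : ∀ k, x (e k) = f k := fun k => (hf k).symm
  have hxf : ∀ k, x (f k) = e k := fun k => by rw [hf, hxx]
  have hye : ∀ k, y (e k) = f (k + 1) := by
    intro k; rw [hf, he_succ, hρa, hxx]
  have hyf : ∀ k, y (f (k + 1)) = e k := by intro k; rw [← hye, hyy]
  -- x ρ^k x = ρ^{-k}
  have hF1 : ∀ v, ρ (x (ρ v)) = x v := by
    intro v; rw [hρa, hρa, hxx, hyy]
  have hF2 : ∀ k w, (ρ ^ k) (x ((ρ ^ k) w)) = x w := by
    intro k
    induction k with
    | zero => intro w; simp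
    | succ k ih =>
      intro w
      have h1 : (ρ ^ (k + 1)) w = ρ ((ρ ^ k) w) := by rw [pow_succ', Perm.mul_apply]
      have h2 : ∀ v, (ρ ^ (k + 1)) v = (ρ ^ k) (ρ v) := by
        intro v; rw [pow_succ, Perm.mul_apply]
      rw [h1, h2, hF1, ih]
  have hfe : ∀ i j, f i ≠ e j := by
    intro i j h
    apply hcyc (i + j)
    have h1 := hF2 i a
    rw [pow_add, Perm.mul_apply, ← he j, ← h, hf, he i, h1]
  have hef : ∀ i j, e i ≠ f j := fun i j h => hfe j i h.symm
  -- the period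
  have hex : ∃ k, 0 < k ∧ e k = a :=
    ⟨orderOf ρ, orderOf_pos ρ, by rw [he, pow_orderOf_eq_one]; rfl⟩
  obtain ⟨m, hm0, hem, hmin⟩ : ∃ m, 0 < m ∧ e m = a ∧ ∀ k, 0 < k → k < m → e k ≠ a :=
    ⟨Nat.find hex, (Nat.find_spec hex).1, (Nat.find_spec hex).2,
      fun k hk hkm h => Nat.find_min hex hkm ⟨hk, h⟩⟩
  have hm_even : Even m := by
    by_contra hodd
    exact ha ⟨m, Nat.not_even_iff_odd.mp hodd, by rw [← he, hem]⟩
  have hm4 : 4 ≤ m := by
    obtain ⟨t, ht⟩ := hm_even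
    have h2 : m ≠ 2 := fun h2 => h4 (by rw [← he, ← h2, hem])
    omega
  have he_inj : ∀ i j, i < j → j < m → e i ≠ e j := by
    intro i j hij hjm h
    have h2 : e j = (ρ ^ i) (e (j - i)) := by
      rw [he, he, ← Perm.mul_apply, ← pow_add]
      congr 2; omega
    rw [h2, he i] at h
    have h3 : a = e (j - i) := (ρ ^ i).injective h
    exact hmin (j - i) (by omega) (by omega) h3.symm
  have hf_inj : ∀ i j, i < j → j < m → f i ≠ f j := by
    intro i j hij hjm h
    rw [hf, hf] at h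
    exact he_inj i j hij hjm (x.injective h)
  have hfm : f m = f 0 := by rw [hf, hf, hem, he0]
  -- the involution z
  obtain ⟨z, hz0, hz1, hz2, hz3, hz4, hz5, hzo⟩ := D_exists_z x hx (fun i : Fin 3 => f i.val)
    (fun i : Fin 3 => e i.val) (fun i => hxf _)
    (by
      intro i j h
      by_contra hne
      rcases lt_or_gt_of_ne (Fin.val_ne_of_ne hne) with hlt | hlt
      · exact hf_inj _ _ hlt (by have := j.2; omega) h
      · exact hf_inj _ _ hlt (by have := i.2; omega) h.symm)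
    (fun i j => hfe _ _)
  have hz0 : z (f 0) = f 1 := hz0
  have hz1 : z (f 1) = f 0 := hz1
  have hz2 : z (e 0) = e 2 := hz2
  have hz3 : z (e 2) = e 0 := hz3
  have hz4 : z (e 1) = f 2 := hz4
  have hz5 : z (f 2) = e 1 := hz5
  have hzgen : ∀ w, w ≠ f 0 → w ≠ f 1 → w ≠ f 2 → w ≠ e 0 → w ≠ e 1 → w ≠ e 2 → z w = x w := by
    intro w h0 h1 h2 h3 h4' h5
    apply hzo
    · intro i; fin_cases i <;> assumption
    · intro i; fin_cases i <;> assumption
  have hcase : ∀ w, w = f 0 ∨ w = f 1 ∨ w = f 2 ∨ w = e 0 ∨ w = e 1 ∨ w = e 2 ∨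
      (w ≠ f 0 ∧ w ≠ f 1 ∧ w ≠ f 2 ∧ w ≠ e 0 ∧ w ≠ e 1 ∧ w ≠ e 2) := by
    intro w; tauto
  have hze : ∀ k, 3 ≤ k → k < m → z (e k) = f k := by
    intro k hk hkm
    rw [hzgen (e k) (hef _ _) (hef _ _) (hef _ _) (he_inj 0 k (by omega) hkm).symm
      (he_inj 1 k (by omega) hkm).symm (he_inj 2 k (by omega) hkm).symm, hxe]
  have hzf : ∀ k, 3 ≤ k → k < m → z (f k) = e k := by
    intro k hk hkm
    rw [hzgen (f k) (hf_inj 0 k (by omega) hkm).symm (hf_inj 1 k (by omega) hkm).symm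
      (hf_inj 2 k (by omega) hkm).symm (hfe _ _) (hfe _ _) (hfe _ _), hxf]
  have hzz : ∀ w, z (z w) = w := by
    intro w
    rcases hcase w with h | h | h | h | h | h | ⟨h0, h1, h2, h3, h4', h5⟩
    · rw [h, hz0, hz1]
    · rw [h, hz1, hz0]
    · rw [h, hz5, hz4]
    · rw [h, hz2, hz3]
    · rw [h, hz4, hz5]
    · rw [h, hz3, hz2]
    · rw [hzgen w h0 h1 h2 h3 h4' h5]
      rw [hzgen (x w) (fun h => h3 (by rw [← hxx w, h, hxf]))
        (fun h => h4' (by rw [← hxx w, h, hxf])) (fun h => h5 (by rw [← hxx w, h, hxf]))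
        (fun h => h0 (by rw [← hxx w, h, hxe])) (fun h => h1 (by rw [← hxx w, h, hxe]))
        (fun h => h2 (by rw [← hxx w, h, hxe])), hxx]
  -- the orbit O
  obtain ⟨O, hO⟩ : ∃ O : Finset α, ∀ w, w ∈ O ↔ ∃ k, k < m ∧ (w = e k ∨ w = f k) :=
    ⟨Finset.univ.filter (fun w => ∃ k, k < m ∧ (w = e k ∨ w = f k)), fun w => by simp⟩
  have heO : ∀ k, k < m → e k ∈ O := fun k hk => (hO _).mpr ⟨k, hk, Or.inl rfl⟩
  have hfO : ∀ k, k < m → f k ∈ O := fun k hk => (hO _).mpr ⟨k, hk, Or.inr rfl⟩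
  have hInvx : Inv x O := by
    intro w hw
    obtain ⟨k, hk, h | h⟩ := (hO w).mp hw
    · rw [h, hxe]; exact hfO k hk
    · rw [h, hxf]; exact heO k hk
  have hyf0 : y (f 0) = e (m - 1) := by
    rw [← hfm]
    have : m = (m - 1) + 1 := by omega
    rw [this, hyf]
    congr 1
  have hInvy : Inv y O := by
    intro w hw
    obtain ⟨k, hk, h | h⟩ := (hO w).mp hw
    · rw [h, hye]
      by_cases hk1 : k + 1 < m
      · exact hfO _ hk1
      · have : k + 1 = m := by omega
        rw [this, hfm]; exact hfO 0 hm0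
    · rw [h]
      rcases Nat.eq_zero_or_pos k with h0 | h0
      · rw [h0, hyf0]; exact heO _ (by omega)
      · obtain ⟨k', rfl⟩ : ∃ k', k = k' + 1 := ⟨k - 1, by omega⟩
        rw [hyf]; exact heO _ (by omega)
  refine ⟨O, z, ?_, hInvx, hInvy, ?_, ?_, ?_⟩
  · rw [← he0]; exact heO 0 hm0
  · intro U hUx hUy haU
    have heU : ∀ k, e k ∈ U := by
      intro k
      induction k with
      | zero => rw [he0]; exact haU
      | succ k ih => rw [he_succ, hρa]; exact hUx _ (hUy _ ih)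
    intro w hw
    obtain ⟨k, _, h | h⟩ := (hO w).mp hw
    · rw [h]; exact heU k
    · rw [h, hf]; exact hUx _ (heU k)
  · intro b hb
    obtain ⟨k, hk, h | h⟩ := (hO b).mp hb
    · rw [h, hxe, hye]
      exact ⟨hfe _ _, hfe _ _⟩
    · rw [h, hxf]
      refine ⟨hef _ _, ?_⟩
      rcases Nat.eq_zero_or_pos k with h0 | h0
      · rw [h0, hyf0]; exact hef _ _
      · obtain ⟨k', rfl⟩ : ∃ k', k = k' + 1 := ⟨k - 1, by omega⟩
        rw [hyf]; exact hef _ _
  · -- Sol
    have h6O : f 0 ∈ O ∧ f 1 ∈ O ∧ f 2 ∈ O ∧ e 0 ∈ O ∧ e 1 ∈ O ∧ e 2 ∈ O :=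
      ⟨hfO 0 (by omega), hfO 1 (by omega), hfO 2 (by omega), heO 0 (by omega), heO 1 (by omega),
        heO 2 (by omega)⟩
    obtain ⟨hf0O, hf1O, hf2O, he0O, he1O, he2O⟩ := h6O
    refine ⟨?_, ?_, ?_, ?_, ?_⟩
    · ext w; rw [Perm.mul_apply, hzz]; rfl
    · intro w hw
      apply hzgen w <;> (intro h; apply hw; rw [h]; assumption)
    · intro w hw
      rcases hcase w with h | h | h | h | h | h | ⟨h0, h1, h2, h3, h4', h5⟩
      · rw [h, hz0]; exact hf1O
      · rw [h, hz1]; exact hf0O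
      · rw [h, hz5]; exact he1O
      · rw [h, hz2]; exact he2O
      · rw [h, hz4]; exact hf2O
      · rw [h, hz3]; exact he0O
      · rw [hzgen w h0 h1 h2 h3 h4' h5]; exact hInvx w hw
    · -- x * z has order dividing 3
      intro w _
      refine ⟨3, by decide, ?_⟩
      have h3 : ((x * z) ^ 3) w = x (z (x (z (x (z w))))) := by
        simp [pow_succ, Perm.mul_apply]
      rw [h3]
      rcases hcase w with h | h | h | h | h | h | ⟨h0, h1, h2, h3, h4', h5⟩
      · rw [h, hz0, hxf, hz4, hxf, hz3, hxe]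
      · rw [h, hz1, hxf, hz2, hxe, hz5, hxe]
      · rw [h, hz5, hxe, hz1, hxf, hz2, hxe]
      · rw [h, hz2, hxe, hz5, hxe, hz1, hxf]
      · rw [h, hz4, hxf, hz3, hxe, hz0, hxf]
      · rw [h, hz3, hxe, hz0, hxf, hz4, hxf]
      · rw [hzgen w h0 h1 h2 h3 h4' h5, hxx, hzgen w h0 h1 h2 h3 h4' h5, hxx,
          hzgen w h0 h1 h2 h3 h4' h5, hxx]
    · -- z * y has two cycles of length m - 1 and two fixed points
      obtain ⟨σ, hσ⟩ : ∃ σ : Perm α, σ = z * y := ⟨_, rfl⟩
      rw [← hσ]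
      have hσa : ∀ w, σ w = z (y w) := fun w => by rw [hσ]; rfl
      have hσsucc : ∀ (i : ℕ) (u : α), (σ ^ (i + 1)) u = σ ((σ ^ i) u) := by
        intro i u; rw [pow_succ', Perm.mul_apply]
      have hodd : Odd (m - 1) := by
        obtain ⟨t, ht⟩ := hm_even
        exact ⟨t - 1, by omega⟩
      have hσe : ∀ k, 2 ≤ k → k + 1 < m → σ (e k) = e (k + 1) := by
        intro k hk hkm
        rw [hσa, hye, hzf (k + 1) (by omega) hkm]
      have hσf : ∀ k, 3 ≤ k → k < m → σ (f (k + 1)) = f k := by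
        intro k hk hkm
        rw [hσa, hyf, hze k hk hkm]
      have hσem : σ (e (m - 1)) = f 1 := by
        rw [hσa, hye]
        have : m - 1 + 1 = m := by omega
        rw [this, hfm, hz0]
      have hσf1 : σ (f 1) = e 2 := by rw [hσa, hyf, hz2]
      have hσf3 : σ (f 3) = e 0 := by rw [hσa, hyf, hz3]
      have hσe0 : σ (e 0) = f 0 := by rw [hσa, hye, hz1]
      have hσe1 : σ (e 1) = e 1 := by rw [hσa, hye, hz5]
      have hσf2 : σ (f 2) = f 2 := by rw [hσa, hyf, hz4]
      -- cycle A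
      have hA : ∀ i, i + 3 ≤ m → (σ ^ i) (e 2) = e (2 + i) := by
        intro i
        induction i with
        | zero => intro _; simp
        | succ i ih =>
          intro hi
          rw [hσsucc, ih (by omega), hσe (2 + i) (by omega) (by omega)]
          congr 1
      have hA1 : (σ ^ (m - 2)) (e 2) = f 1 := by
        have : m - 2 = (m - 3) + 1 := by omega
        rw [this, hσsucc, hA (m - 3) (by omega)]
        have : 2 + (m - 3) = m - 1 := by omega
        rw [this, hσem]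
      have hA2 : (σ ^ (m - 1)) (e 2) = e 2 := by
        have : m - 1 = (m - 2) + 1 := by omega
        rw [this, hσsucc, hA1, hσf1]
      -- cycle B
      have hB : ∀ i, i + 3 ≤ m → (σ ^ i) (f m) = f (m - i) := by
        intro i
        induction i with
        | zero => intro _; simp
        | succ i ih =>
          intro hi
          rw [hσsucc, ih (by omega)]
          have : m - i = (m - (i + 1)) + 1 := by omega
          rw [this, hσf (m - (i + 1)) (by omega) (by omega)]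
      have hB1 : (σ ^ (m - 2)) (f m) = e 0 := by
        have : m - 2 = (m - 3) + 1 := by omega
        rw [this, hσsucc, hB (m - 3) (by omega)]
        have : m - (m - 3) = 3 := by omega
        rw [this, hσf3]
      have hB2 : (σ ^ (m - 1)) (f m) = f m := by
        have : m - 1 = (m - 2) + 1 := by omega
        rw [this, hσsucc, hB1, hσe0, hfm]
      intro w hw
      obtain ⟨k, hk, h | h⟩ := (hO w).mp hw
      · -- w = e k
        by_cases hk0 : k = 0
        · refine ⟨m - 1, hodd, ?_⟩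
          rw [h, hk0, ← hB1]
          exact D_pow_fix σ (f m) (m - 1) (m - 2) hB2
        by_cases hk1 : k = 1
        · refine ⟨1, by decide, ?_⟩
          rw [h, hk1, pow_one, hσe1]
        · refine ⟨m - 1, hodd, ?_⟩
          have : e k = (σ ^ (k - 2)) (e 2) := by
            rw [hA (k - 2) (by omega)]
            congr 1; omega
          rw [h, this]
          exact D_pow_fix σ (e 2) (m - 1) (k - 2) hA2
      · -- w = f k
        by_cases hk0 : k = 0
        · refine ⟨m - 1, hodd, ?_⟩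
          rw [h, hk0, ← hfm]
          exact hB2
        by_cases hk1 : k = 1
        · refine ⟨m - 1, hodd, ?_⟩
          rw [h, hk1, ← hA1]
          exact D_pow_fix σ (e 2) (m - 1) (m - 2) hA2
        by_cases hk2 : k = 2
        · refine ⟨1, by decide, ?_⟩
          rw [h, hk2, pow_one, hσf2]
        · refine ⟨m - 1, hodd, ?_⟩
          have : f k = (σ ^ (m - k)) (f m) := by
            rw [hB (m - k) (by omega)]
            congr 1; omega
          rw [h, this]
          exact D_pow_fix σ (f m) (m - 1) (m - k) hB2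

end Cfsg.Agent.S3265L
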