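import Mathlib
import Cfsg.Agent.Lib.S3265.Defs
import Cfsg.Agent.Lib.S3265.Basic
import Cfsg.Agent.Lib.S3265.Good
import Cfsg.Agent.Lib.S3265.Path
import Cfsg.Agent.Lib.S3265.Switch
import Cfsg.Agent.Lib.S3265.Window
import Cfsg.Agent.Lib.S3265.Ext
import Cfsg.Agent.Lib.S3265.KK

set_option autoImplicit false
set_option linter.unusedSectionVars false
open Equiv Equiv.Perm

namespace Cfsg.Agent.S3265L

variable {α : Type*} [Fintype α] [DecidableEq α]

/-! ## Piece M : the induction (helper9) -/

theorem M_inv_sdiff (g : Perm α) (hg : g * g = 1) (U O : Finset α) (hU : Inv g U) (hO : Inv g O) :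
    Inv g (U \ O) := by
  intro a ha
  rw [Finset.mem_sdiff] at ha ⊢
  refine ⟨hU a ha.1, fun h => ha.2 ?_⟩
  have := hO _ h
  have e : g (g a) = a := by
    have := congrArg (fun f : Perm α => f a) hg
    simpa using this
  rwa [e] at this

theorem M_bal_sdiff (x y : Perm α) (U O : Finset α) (hOU : O ⊆ U) (hU : Bal x y U) (hO : Bal x y O) :
    Bal x y (U \ O) := by
  unfold Bal at *
  have e1 : (U \ O).filter (fun a => x a = a) = U.filter (fun a => x a = a) \ O.filter (fun a => x a = a) := by
    ext a; simp only [Finset.mem_filter, Finset.mem_sdiff]; tauto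
  have e2 : (U \ O).filter (fun a => y a = a) = U.filter (fun a => y a = a) \ O.filter (fun a => y a = a) := by
    ext a; simp only [Finset.mem_filter, Finset.mem_sdiff]; tauto
  have s1 : O.filter (fun a => x a = a) ⊆ U.filter (fun a => x a = a) := Finset.filter_subset_filter _ hOU
  have s2 : O.filter (fun a => y a = a) ⊆ U.filter (fun a => y a = a) := Finset.filter_subset_filter _ hOU
  rw [e1, e2, Finset.card_sdiff_of_subset s1, Finset.card_sdiff_of_subset s2, hU, hO]

theorem M_inv_pow (x y : Perm α) (U : Finset α) (hx : Inv x U) (hy : Inv y U) (a : α) (ha : a ∈ U) (i : ℕ) :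
    ((x * y) ^ i) a ∈ U := by
  induction i with
  | zero => simpa using ha
  | succ i ih =>
    rw [pow_succ', Perm.mul_apply, Perm.mul_apply]
    exact hx _ (hy _ ih)

theorem M_apply_apply (g : Perm α) (hg : g * g = 1) (a : α) : g (g a) = a := by
  have := congrArg (fun f : Perm α => f a) hg
  simpa using this

/-- facts about a bare 4-cycle -/
theorem M_isK_facts (x y : Perm α) (hx : x * x = 1) (hy : y * y = 1) (a b c d : α) (hK : IsK x y a b c d) :
    Inv x {a, b, c, d} ∧ Inv y {a, b, c, d} ∧ (∀ w ∈ ({a, b, c, d} : Finset α), x w ≠ w ∧ y w ≠ w) := by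
  obtain ⟨hab, hac, had, hbc, hbd, hcd, xa, xc, yb, yd⟩ := hK
  have xb : x b = a := by rw [← xa]; exact M_apply_apply x hx a
  have xd : x d = c := by rw [← xc]; exact M_apply_apply x hx c
  have yc : y c = b := by rw [← yb]; exact M_apply_apply y hy b
  have ya : y a = d := by rw [← yd]; exact M_apply_apply y hy d
  refine ⟨?_, ?_, ?_⟩
  · intro w hw
    simp only [Finset.mem_insert, Finset.mem_singleton] at hw ⊢
    rcases hw with rfl | rfl | rfl | rfl
    · rw [xa]; tauto
    · rw [xb]; tauto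
    · rw [xc]; tauto
    · rw [xd]; tauto
  · intro w hw
    simp only [Finset.mem_insert, Finset.mem_singleton] at hw ⊢
    rcases hw with rfl | rfl | rfl | rfl
    · rw [ya]; tauto
    · rw [yb]; tauto
    · rw [yc]; tauto
    · rw [yd]; tauto
  · intro w hw
    simp only [Finset.mem_insert, Finset.mem_singleton] at hw
    rcases hw with rfl | rfl | rfl | rfl
    · rw [xa, ya]; exact ⟨fun h => hab h.symm, fun h => had h.symm⟩
    · rw [xb, yb]; exact ⟨fun h => hab h, fun h => hbc h.symm⟩
    · rw [xc, yc]; exact ⟨fun h => hcd h.symm, fun h => hbc h⟩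
    · rw [xd, yd]; exact ⟨fun h => hcd h, fun h => had h⟩

theorem M_bal_of_no_fixed (x y : Perm α) (O : Finset α) (h : ∀ w ∈ O, x w ≠ w ∧ y w ≠ w) : Bal x y O := by
  unfold Bal
  have e1 : O.filter (fun a => x a = a) = ∅ := by
    apply Finset.filter_eq_empty_iff.2
    intro w hw; exact (h w hw).1
  have e2 : O.filter (fun a => y a = a) = ∅ := by
    apply Finset.filter_eq_empty_iff.2
    intro w hw; exact (h w hw).2
  rw [e1, e2]

/-- the bare-K predicate -/
def M_bareK (x y : Perm α) (U : Finset α) : Prop := ∃ a b c d, IsK x y a b c d ∧ U = {a, b, c, d}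

theorem main_ind (x y : Perm α) (hx : x * x = 1) (hy : y * y = 1) :
    ∀ (k : ℕ) (U : Finset α), U.card = k → Inv x U → Inv y U → (∀ a ∈ U, ¬ OddPt (x * y) a) →
      Bal x y U → ¬ M_bareK x y U → ∃ z, Sol x y U z := by
  intro k
  induction k using Nat.strong_induction_on with
  | _ k ih =>
  intro U hUk hUx hUy hbad hbal hnK
  -- the common step
  have step : ∀ (O : Finset α) (z₁ : Perm α), O ⊆ U → O.Nonempty → Inv x O → Inv y O → Bal x y O →
      Sol x y O z₁ → ∃ z, Sol x y U z := by
    intro O z₁ hOU hOne hOx hOy hObal hsol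
    have hU'x := M_inv_sdiff x hx U O hUx hOx
    have hU'y := M_inv_sdiff y hy U O hUy hOy
    have hU'bal := M_bal_sdiff x y U O hOU hbal hObal
    have hU'bad : ∀ a ∈ U \ O, ¬ OddPt (x * y) a := fun a ha => hbad a (Finset.mem_sdiff.1 ha).1
    have hlt : (U \ O).card < k := by
      rw [← hUk]
      apply Finset.card_lt_card
      refine ⟨Finset.sdiff_subset, fun h => ?_⟩
      obtain ⟨w, hw⟩ := hOne
      have := h (hOU hw)
      exact (Finset.mem_sdiff.1 this).2 hw
    have hUeq : O ∪ (U \ O) = U := Finset.union_sdiff_of_subset hOU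
    by_cases hK' : M_bareK x y (U \ O)
    · obtain ⟨a, b, c, d, hK, hE⟩ := hK'
      have hmem : ∀ w ∈ ({a, b, c, d} : Finset α), w ∉ O := by
        intro w hw; rw [← hE] at hw; exact (Finset.mem_sdiff.1 hw).2
      obtain ⟨z, hz⟩ := ext_sol x y hx hy a b c d hK O hOne
        ⟨hmem a (by simp), hmem b (by simp), hmem c (by simp), hmem d (by simp)⟩ hOx hOy z₁ hsol
      rw [← hE, hUeq] at hz
      exact ⟨z, hz⟩
    · obtain ⟨z₂, hz₂⟩ := ih _ hlt (U \ O) rfl hU'x hU'y hU'bad hU'bal hK'
      have := sol_glue x y hx O (U \ O) Finset.disjoint_sdiff hOx hOy hU'x hU'y z₁ z₂ hsol hz₂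
      rw [hUeq] at this
      exact ⟨_, this⟩
  by_cases hUe : U = ∅
  · subst hUe
    exact ⟨x, sol_empty x y hx⟩
  -- switch case
  have switch_case : ∀ p ∈ U, ∀ q ∈ U, y p = p → x q = q → ∃ z, Sol x y U z := by
    intro p hp q hq hyp hxq
    obtain ⟨O, z₁, hpO, hqO, hOx, hOy, hmin, hObal, hsol⟩ :=
      switch_sol x y hx hy p q hyp (hbad p hp) hxq (hbad q hq)
    exact step O z₁ (hmin U hUx hUy hp hq) ⟨p, hpO⟩ hOx hOy hObal hsol
  by_cases hfy : ∃ p ∈ U, y p = p
  · obtain ⟨p, hp, hyp⟩ := hfy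
    have h1 : 0 < (U.filter (fun a => y a = a)).card :=
      Finset.card_pos.2 ⟨p, Finset.mem_filter.2 ⟨hp, hyp⟩⟩
    have h2 : 0 < (U.filter (fun a => x a = a)).card := by
      have : (U.filter (fun a => x a = a)).card = (U.filter (fun a => y a = a)).card := hbal
      omega
    obtain ⟨q, hq⟩ := Finset.card_pos.1 h2
    rw [Finset.mem_filter] at hq
    exact switch_case p hp q hq.1 hyp hq.2
  by_cases hfx : ∃ q ∈ U, x q = q
  · obtain ⟨q, hq, hxq⟩ := hfx
    have h1 : 0 < (U.filter (fun a => x a = a)).card :=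
      Finset.card_pos.2 ⟨q, Finset.mem_filter.2 ⟨hq, hxq⟩⟩
    have h2 : 0 < (U.filter (fun a => y a = a)).card := by
      have : (U.filter (fun a => x a = a)).card = (U.filter (fun a => y a = a)).card := hbal
      omega
    obtain ⟨p, hp⟩ := Finset.card_pos.1 h2
    rw [Finset.mem_filter] at hp
    exact switch_case p hp.1 q hq hp.2 hxq
  -- no fixed points in U
  simp only [not_exists, not_and] at hfy hfx
  obtain ⟨a, ha⟩ := Finset.nonempty_iff_ne_empty.2 hUe
  have hcyc : ∀ j : ℕ, ((x * y) ^ j) a ≠ x a := by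
    intro j hj
    obtain ⟨i, hi⟩ := exists_fixed_of_path x y hx hy a j hj
    have hm := M_inv_pow x y U hUx hUy a ha i
    rcases hi with hi | hi
    · exact hfx _ hm hi
    · exact hfy _ hm hi
  by_cases h2 : ((x * y) ^ 2) a = a
  · -- bare 4-cycle through a
    have hK := isK_of_period_two x y hx hy a (hbad a ha) hcyc h2
    set b := x a with hb
    set c := y b with hc
    set d := x c with hd
    obtain ⟨hKx, hKy, hKnf⟩ := M_isK_facts x y hx hy a b c d hK
    have hbU : b ∈ U := hUx a ha
    have hcU : c ∈ U := hUy b hbU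
    have hdU : d ∈ U := hUx c hcU
    have hKU : ({a, b, c, d} : Finset α) ⊆ U := by
      intro w hw
      simp only [Finset.mem_insert, Finset.mem_singleton] at hw
      rcases hw with rfl | rfl | rfl | rfl <;> assumption
    set K : Finset α := {a, b, c, d} with hKdef
    have hWx := M_inv_sdiff x hx U K hUx hKx
    have hWy := M_inv_sdiff y hy U K hUy hKy
    have hWbal := M_bal_sdiff x y U K hKU hbal (M_bal_of_no_fixed x y K hKnf)
    have hWbad : ∀ w ∈ U \ K, ¬ OddPt (x * y) w := fun w hw => hbad w (Finset.mem_sdiff.1 hw).1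
    have hlt : (U \ K).card < k := by
      rw [← hUk]
      apply Finset.card_lt_card
      refine ⟨Finset.sdiff_subset, fun h => ?_⟩
      have := h ha
      exact (Finset.mem_sdiff.1 this).2 (by simp [hKdef])
    have hUeq : (U \ K) ∪ K = U := by
      rw [Finset.union_comm]; exact Finset.union_sdiff_of_subset hKU
    have hWne : (U \ K).Nonempty := by
      rw [Finset.nonempty_iff_ne_empty]
      intro h
      apply hnK
      refine ⟨a, b, c, d, hK, ?_⟩
      rw [← hUeq, h, Finset.empty_union]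
    by_cases hK' : M_bareK x y (U \ K)
    · obtain ⟨a', b', c', d', hK2, hE⟩ := hK'
      have hdisj : Disjoint ({a, b, c, d} : Finset α) {a', b', c', d'} := by
        rw [← hE]; exact Finset.disjoint_sdiff
      obtain ⟨z, hz⟩ := kk_sol x y hx hy a b c d a' b' c' d' hK hK2 hdisj
      rw [← hE, Finset.union_comm, hUeq] at hz
      exact ⟨z, hz⟩
    · obtain ⟨z', hz'⟩ := ih _ hlt (U \ K) rfl hWx hWy hWbad hWbal hK'
      have hnot : ∀ w ∈ K, w ∉ U \ K := fun w hw h => (Finset.mem_sdiff.1 h).2 hw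
      obtain ⟨z, hz⟩ := ext_sol x y hx hy a b c d hK (U \ K) hWne
        ⟨hnot a (by simp [hKdef]), hnot b (by simp [hKdef]), hnot c (by simp [hKdef]),
          hnot d (by simp [hKdef])⟩ hWx hWy z' hz'
      rw [hUeq] at hz
      exact ⟨z, hz⟩
  · obtain ⟨O, z₁, haO, hOx, hOy, hmin, hnf, hsol⟩ := window_sol x y hx hy a (hbad a ha) hcyc h2
    exact step O z₁ (hmin U hUx hUy ha) ⟨a, haO⟩ hOx hOy (M_bal_of_no_fixed x y O hnf) hsol

theorem key (h5 : 5 ≤ Fintype.card α) (x y : Perm α) (hx : x * x = 1) (hy : y * y = 1)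
    (hbal : Bal x y Finset.univ) :
    ∃ z : Perm α, z * z = 1 ∧ Odd (orderOf (x * z)) ∧ Odd (orderOf (z * y)) := by
  classical
  set A := good x y with hA
  have hAx := good_inv_x x y hx hy
  have hAy := good_inv_y x y hx hy
  have hAsol := sol_good x y hx hy
  have hAbal := good_bal x y hx hy
  have hUx : Inv x Finset.univ := fun a _ => Finset.mem_univ _
  have hUy : Inv y Finset.univ := fun a _ => Finset.mem_univ _
  set B := Finset.univ \ A with hB
  have hBx := M_inv_sdiff x hx Finset.univ A hUx hAx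
  have hBy := M_inv_sdiff y hy Finset.univ A hUy hAy
  have hBbal := M_bal_sdiff x y Finset.univ A (Finset.subset_univ _) hbal hAbal
  have hBbad : ∀ a ∈ B, ¬ OddPt (x * y) a := by
    intro a ha h
    rw [hB, Finset.mem_sdiff] at ha
    apply ha.2
    rw [hA]; unfold good
    exact Finset.mem_filter.2 ⟨Finset.mem_univ _, h⟩
  have hAB : A ∪ B = Finset.univ := Finset.union_sdiff_of_subset (Finset.subset_univ _)
  suffices h : ∃ z, Sol x y Finset.univ z by
    obtain ⟨z, hz⟩ := h
    exact ⟨z, sol_univ x y z hz⟩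
  by_cases hK : M_bareK x y B
  · obtain ⟨a, b, c, d, hK4, hE⟩ := hK
    have hAne : A.Nonempty := by
      rw [Finset.nonempty_iff_ne_empty]
      intro h
      have h1 : B = Finset.univ := by rw [← hAB, h, Finset.empty_union]
      have h2 : B.card ≤ 4 := by
        rw [hE]
        exact Finset.card_le_four
      rw [h1, Finset.card_univ] at h2
      omega
    have hmem : ∀ w ∈ ({a, b, c, d} : Finset α), w ∉ A := by
      intro w hw; rw [← hE, hB] at hw; exact (Finset.mem_sdiff.1 hw).2
    obtain ⟨z, hz⟩ := ext_sol x y hx hy a b c d hK4 A hAne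
      ⟨hmem a (by simp), hmem b (by simp), hmem c (by simp), hmem d (by simp)⟩ hAx hAy x hAsol
    rw [← hE, hAB] at hz
    exact ⟨z, hz⟩
  · obtain ⟨z₂, hz₂⟩ := main_ind x y hx hy _ B rfl hBx hBy hBbad hBbal hK
    have := sol_glue x y hx A B Finset.disjoint_sdiff hAx hAy hBx hBy x z₂ hAsol hz₂
    rw [hAB] at this
    exact ⟨_, this⟩

end Cfsg.Agent.S3265L
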