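import Mathlib
import Cfsg.Agent.Lib.S3265.Defs

/-! S3265 piece N (helper8): two distinct commuting conjugates of an involution of `S_n`, `n ≥ 5`. -/

set_option autoImplicit false
open Equiv Equiv.Perm

namespace Cfsg.Agent.S3265L

theorem N_not_odd {G : Type*} [Group G] (x y : G) (hx : x * x = 1) (hy : y * y = 1)
    (hc : x * y = y * x) (hne : x ≠ y) : ¬ Odd (orderOf (x * y)) := by
  have h2 : (x * y) ^ 2 = 1 := by
    rw [sq]
    calc x * y * (x * y) = x * (y * x) * y := by group
      _ = x * (x * y) * y := by rw [hc]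
      _ = (x * x) * (y * y) := by group
      _ = 1 := by rw [hx, hy, one_mul]
  have h1 : x * y ≠ 1 := by
    intro h
    apply hne
    have e1 : x = y⁻¹ := eq_inv_of_mul_eq_one_left h
    have e2 : y⁻¹ = y := inv_eq_of_mul_eq_one_right hy
    rw [e1, e2]
  have : Fact (Nat.Prime 2) := ⟨Nat.prime_two⟩
  rw [orderOf_eq_prime h2 h1]
  decide

theorem N_exists_notMem {n : ℕ} (S : Finset (Fin n)) (k : ℕ) (hS : S.card ≤ k) (hk : k < n) :
    ∃ z, z ∉ S := by
  by_contra h
  push Not at h
  have h1 : S = Finset.univ := Finset.eq_univ_iff_forall.mpr h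
  have h2 := congrArg Finset.card h1
  rw [Finset.card_univ, Fintype.card_fin] at h2
  omega

theorem exists_nonadj (n : ℕ) (hn : 5 ≤ n) (t : Perm (Fin n)) (ht : orderOf t = 2) :
    ∃ x y : Perm (Fin n), IsConj t x ∧ IsConj t y ∧ x ≠ y ∧ ¬ Odd (orderOf (x * y)) := by
  have htt : t * t = 1 := by
    rw [← sq, ← ht]
    exact pow_orderOf_eq_one t
  have htt' : ∀ w, t (t w) = w := by
    intro w
    have := congrArg (fun f : Perm (Fin n) => f w) htt
    simpa [Perm.mul_apply] using this
  have ht1 : t ≠ 1 := by
    intro h
    rw [h, orderOf_one] at ht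
    omega
  obtain ⟨a, ha⟩ : ∃ a, t a ≠ a := by
    by_contra h
    push Not at h
    exact ht1 (Equiv.ext h)
  set b := t a with hb
  have hab : a ≠ b := Ne.symm ha
  have htb : t b = a := htt' a
  by_cases hcase : ∃ c, c ≠ a ∧ c ≠ b ∧ t c ≠ c
  · obtain ⟨c, hca, hcb, hc⟩ := hcase
    set d := t c with hd
    have htd : t d = c := htt' c
    have hdc : d ≠ c := hc
    have hda : d ≠ a := by
      intro h
      apply hcb
      rw [← htd, h]
    have hdb : d ≠ b := by
      intro h
      apply hca
      rw [← htd, h, htb]
    set σ : Perm (Fin n) := swap b c with hσ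
    have σa : σ a = a := swap_apply_of_ne_of_ne hab (Ne.symm hca)
    have σb : σ b = c := swap_apply_left b c
    have σc : σ c = b := swap_apply_right b c
    have σd : σ d = d := swap_apply_of_ne_of_ne hdb hdc
    have σw : ∀ w, w ≠ b → w ≠ c → σ w = w := fun w h1 h2 => swap_apply_of_ne_of_ne h1 h2
    have hσinv : σ⁻¹ = σ := swap_inv b c
    set y : Perm (Fin n) := σ * t * σ⁻¹ with hy
    have yapp : ∀ w, y w = σ (t (σ w)) := by
      intro w
      rw [hy, hσinv]
      rfl
    have ya : y a = c := by rw [yapp, σa, ← hb, σb]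
    have yb : y b = d := by rw [yapp, σb, ← hd, σd]
    have yc : y c = a := by rw [yapp, σc, htb, σa]
    have yd : y d = b := by rw [yapp, σd, htd, σc]
    have yw : ∀ w, w ≠ a → w ≠ b → w ≠ c → w ≠ d → y w = t w := by
      intro w h1 h2 h3 h4
      rw [yapp, σw w h2 h3]
      apply σw
      · intro h
        apply h1
        rw [← htt' w, h, htb]
      · intro h
        apply h4
        rw [← htt' w, h]
    refine ⟨t, y, IsConj.refl t, isConj_iff.mpr ⟨σ, rfl⟩, ?_, ?_⟩
    · intro h
      have := DFunLike.congr_fun h a
      rw [ya, ← hb] at this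
      exact hcb this.symm
    · apply N_not_odd t y htt
      · rw [hy]
        calc σ * t * σ⁻¹ * (σ * t * σ⁻¹) = σ * (t * t) * σ⁻¹ := by group
          _ = 1 := by rw [htt]; group
      · apply Equiv.ext
        intro w
        show t (y w) = y (t w)
        by_cases h1 : w = a
        · rw [h1, ya, ← hd, ← hb, yb]
        by_cases h2 : w = b
        · rw [h2, yb, htd, htb, ya]
        by_cases h3 : w = c
        · rw [h3, yc, ← hb, ← hd, yd]
        by_cases h4 : w = d
        · rw [h4, yd, htb, htd, yc]
        · rw [yw w h1 h2 h3 h4, htt' w]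
          have e1 : t w ≠ a := fun h => h2 (by rw [← htt' w, h])
          have e2 : t w ≠ b := fun h => h1 (by rw [← htt' w, h, htb])
          have e3 : t w ≠ c := fun h => h4 (by rw [← htt' w, h])
          have e4 : t w ≠ d := fun h => h3 (by rw [← htt' w, h, htd])
          rw [yw (t w) e1 e2 e3 e4, htt' w]
      · intro h
        have := DFunLike.congr_fun h a
        rw [ya, ← hb] at this
        exact hcb this.symm
  · push Not at hcase
    have hswap : t = swap a b := by
      apply Equiv.ext
      intro w
      by_cases h1 : w = a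
      · rw [h1, swap_apply_left]
      by_cases h2 : w = b
      · rw [h2, swap_apply_right, htb]
      · rw [swap_apply_of_ne_of_ne h1 h2]
        exact hcase w h1 h2
    obtain ⟨u, hu⟩ := N_exists_notMem ({a, b} : Finset (Fin n)) 2 Finset.card_le_two (by omega)
    obtain ⟨v, hv⟩ := N_exists_notMem ({a, b, u} : Finset (Fin n)) 3 Finset.card_le_three
      (by omega)
    simp only [Finset.mem_insert, Finset.mem_singleton, not_or] at hu hv
    obtain ⟨hua, hub⟩ := hu
    obtain ⟨hva, hvb, hvu⟩ := hv
    refine ⟨t, swap u v, IsConj.refl t, ?_, ?_, ?_⟩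
    · rw [hswap]
      exact isConj_swap hab (Ne.symm hvu)
    · intro h
      have := DFunLike.congr_fun h a
      rw [← hb, swap_apply_of_ne_of_ne (Ne.symm hua) (Ne.symm hva)] at this
      exact hab this.symm
    · apply N_not_odd t (swap u v) htt (swap_mul_self u v)
      · rw [hswap]
        apply Equiv.ext
        intro w
        show swap a b (swap u v w) = swap u v (swap a b w)
        by_cases h1 : w = a
        · rw [h1, swap_apply_of_ne_of_ne (Ne.symm hua) (Ne.symm hva), swap_apply_left,
            swap_apply_of_ne_of_ne (Ne.symm hub) (Ne.symm hvb)]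
        by_cases h2 : w = b
        · rw [h2, swap_apply_of_ne_of_ne (Ne.symm hub) (Ne.symm hvb), swap_apply_right,
            swap_apply_of_ne_of_ne (Ne.symm hua) (Ne.symm hva)]
        by_cases h3 : w = u
        · rw [h3, swap_apply_left, swap_apply_of_ne_of_ne hva hvb,
            swap_apply_of_ne_of_ne hua hub, swap_apply_left]
        by_cases h4 : w = v
        · rw [h4, swap_apply_right, swap_apply_of_ne_of_ne hua hub,
            swap_apply_of_ne_of_ne hva hvb, swap_apply_right]
        · rw [swap_apply_of_ne_of_ne h3 h4, swap_apply_of_ne_of_ne h1 h2,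
            swap_apply_of_ne_of_ne h3 h4]
      · intro h
        have := DFunLike.congr_fun h a
        rw [← hb, swap_apply_of_ne_of_ne (Ne.symm hua) (Ne.symm hva)] at this
        exact hab this.symm

end Cfsg.Agent.S3265L
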